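import Cfsg.Agent.H41.AutFi.Start
import Cfsg.Agent.H93.Exist.Fi24Type

/-!
The input for type M(24) gives a model.
-/

set_option autoImplicit false
set_option maxRecDepth 20000

namespace Cfsg.Agent.H41.AutFi

open Cfsg.Agent.H93
open Cfsg.Agent.H93.Exist (G23 D23 M24Input)

/-- the input gives a model -/
theorem Model.of_input {G : Type*} [Group G] [Finite G] {E : Set G} {l k : G} {φ : G23 →* G}
    (h : M24Input E l k φ) : Model D23 E l φ where
  geo := H61.M24.geo24 ⟨h.cls.1, h.tt.conj_mem, h.cls.2.2⟩ h.prim h.type24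
  hl := h.hl
  inj := h.inj
  comm := h.comm
  notmem := h.notmem
  cl := h.cl
  member _ hz := h.member hz
  of_nb _ hy := h.of_nb hy

end Cfsg.Agent.H41.AutFi
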