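import Cfsg.Agent.H41.AutFi.Final
import Cfsg.Agent.H41.AutFi.OfInput
import Cfsg.Agent.H93.Exist.Fi24Facts

/-!
A group with a subgroup of index two of large Fischer type is isomorphic to the presented Fi24 and is of
type M(24), given the centralisers of the inner involutions and the recognition of type M(23).
-/

set_option autoImplicit false
set_option maxRecDepth 100000

namespace Cfsg.Agent.H41.AutFi

open Cfsg.Agent.H93

universe u

/-- the fixed member of the presented group of type M(24) -/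
noncomputable abbrev l24 : Cfsg.Spor.Fi24 := Cfsg.Agent.H93.Exist.gen24 .l

theorem finite24 : Finite Cfsg.Spor.Fi24 := Cfsg.Agent.H25.Fi24.finite_X

/-- the isomorphism with the presented group -/
theorem exists_iso_fi24 (h50 : H33.AutLFi.InnerCentralizer.{u})
    (h02 : H33.AutLFi.CentralRecognition.{u}) {X : Type u} [Group X] [Finite X] (G₀ : Subgroup X)
    (hidx : G₀.index = 2) (z : ↥G₀) (Q : Subgroup (Subgroup.centralizer ({z} : Set ↥G₀))) [Q.Normal]
    (hF : Cfsg.IsOfLargeFischerTypeAt z Q)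
    (hcentral : ∃ P : Sylow 2 ↥G₀, z ∈ (P : Subgroup ↥G₀) ∧ ∀ x ∈ (P : Subgroup ↥G₀), Commute x z)
    (hFX : (Cfsg.generalizedFittingSubgroup ↥(Subgroup.centralizer ({(z : X)} : Set X))).map
      (Subgroup.subtype _) = ((Q.map (Subgroup.subtype _)).map G₀.subtype)) :
    ∃ ε : Cfsg.Spor.Fi24 ≃* X, ε l24 ∉ G₀ ∧ orderOf (ε l24) = 2 ∧ Commute (ε l24) (z : X) := by
  have := finite24
  exact exists_iso h50 h02 (Model.of_input Exist.Core24.counts.input) G₀ hidx z Q hF hcentral hFX

/-- the class of type M(24), which is acted on primitively -/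
theorem exists_class_fi24 (h50 : H33.AutLFi.InnerCentralizer.{u})
    (h02 : H33.AutLFi.CentralRecognition.{u}) {X : Type u} [Group X] [Finite X] (G₀ : Subgroup X)
    (hidx : G₀.index = 2) (z : ↥G₀) (Q : Subgroup (Subgroup.centralizer ({z} : Set ↥G₀))) [Q.Normal]
    (hF : Cfsg.IsOfLargeFischerTypeAt z Q)
    (hcentral : ∃ P : Sylow 2 ↥G₀, z ∈ (P : Subgroup ↥G₀) ∧ ∀ x ∈ (P : Subgroup ↥G₀), Commute x z)
    (hFX : (Cfsg.generalizedFittingSubgroup ↥(Subgroup.centralizer ({(z : X)} : Set X))).map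
      (Subgroup.subtype _) = ((Q.map (Subgroup.subtype _)).map G₀.subtype)) :
    ∃ E : Set X, Cfsg.IsThreeTranspositionClass E ∧ Cfsg.IsOfTypeM24 X E ∧
      Cfsg.IsPrimitiveUnderConj E := by
  have := finite24
  obtain ⟨ε, -⟩ := exists_iso_fi24 h50 h02 G₀ hidx z Q hF hcentral hFX
  have h := Exist.Core24.counts.input
  exact ⟨ε '' conjugatesOf l24, class_transfer ε h.cls, type24_transfer ε h.type24,
    prim_transfer ε h.prim⟩

end Cfsg.Agent.H41.AutFi
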