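import Cfsg.Agent.H41.AutFi.Setting

/-!
A frame can be moved by any element of the group.
-/

set_option autoImplicit false

namespace Cfsg.Agent.H41.AutFi

open scoped commutatorElement

variable {X : Type*} [Group X] {G₀ : Subgroup X} {d : X} {T : Set X}

theorem cn_conj_mem (hn : G₀.Normal) (g : X) {s : List X} {x : X} (hx : x ∈ cn G₀ s) :
    g * x * g⁻¹ ∈ cn G₀ (s.map (cj g)) := by
  rw [← cn_map hn g s]
  exact ⟨x, hx, rfl⟩

theorem exists_cn_conj (hn : G₀.Normal) (g : X) {s : List X} {x : X}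
    (hx : x ∈ cn G₀ (s.map (cj g))) : ∃ y ∈ cn G₀ s, x = g * y * g⁻¹ := by
  rw [← cn_map hn g s] at hx
  obtain ⟨y, hy, rfl⟩ := hx
  exact ⟨y, hy, rfl⟩

theorem cj_cj (g k a : X) :
    g * k * g⁻¹ * (g * a * g⁻¹) * (g * k * g⁻¹)⁻¹ = g * (k * a * k⁻¹) * g⁻¹ := by group

theorem Tri.exists_pre {g a b c : X} (h : Tri ((fun x => g * x * g⁻¹) '' T) a b c) :
    ∃ a' b' c', Tri T a' b' c' ∧ a = g * a' * g⁻¹ ∧ b = g * b' * g⁻¹ ∧ c = g * c' * g⁻¹ := by
  have h' := h.map g⁻¹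
  obtain ⟨⟨a', ha, rfl⟩, ⟨b', hb, rfl⟩, ⟨c', hc, rfl⟩, n1, n2, n3, c1, c2, c3⟩ := h
  have un : ∀ {x y : X}, Commute (g * x * g⁻¹) (g * y * g⁻¹) → Commute x y := fun {x y} q => by
    simpa [cj_apply, mul_assoc] using q.map (cj g⁻¹)
  exact ⟨a', b', c', ⟨ha, hb, hc, fun e => n1 (by rw [e]), fun e => n2 (by rw [e]),
    fun e => n3 (by rw [e]), un c1, un c2, un c3⟩, rfl, rfl, rfl⟩

theorem comm_of_cj {g x y : X} (h : Commute (g * x * g⁻¹) (g * y * g⁻¹)) : Commute x y := by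
  simpa [cj_apply, mul_assoc] using h.map (cj g⁻¹)

/-- frames are carried along by conjugation -/
theorem Frame.conj (F : Frame G₀ d T) (hn : G₀.Normal) (g : X) :
    Frame G₀ (g * d * g⁻¹) ((fun x => g * x * g⁻¹) '' T) where
  sq_d := by rw [show g * d * g⁻¹ * (g * d * g⁻¹) = g * (d * d) * g⁻¹ by group, F.sq_d]; group
  out h := F.out (by simpa [mul_assoc] using hn.conj_mem _ h g⁻¹)
  le := by
    rintro _ ⟨a, ha, rfl⟩
    exact cn_conj_mem hn g (s := [d]) (F.le a ha)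
  sq := by
    rintro _ ⟨a, ha, rfl⟩
    rw [show g * a * g⁻¹ * (g * a * g⁻¹) = g * (a * a) * g⁻¹ by group, F.sq a ha]; group
  ne1 := by
    rintro _ ⟨a, ha, rfl⟩ e
    refine F.ne1 a ha ?_
    rwa [conj_eq_one_iff] at e
  conjT := by
    rintro k hk _ ⟨a, ha, rfl⟩
    obtain ⟨y, hy, rfl⟩ := exists_cn_conj hn g (s := [d]) hk
    exact ⟨_, F.conjT y hy a ha, (cj_cj g y a).symm⟩
  transT := by
    rintro _ ⟨a, ha, rfl⟩ _ ⟨b, hb, rfl⟩
    obtain ⟨k, hk, e⟩ := F.transT a ha b hb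
    exact ⟨_, cn_conj_mem hn g (s := [d]) hk, by rw [cj_cj, e]⟩
  cases := by
    rintro _ ⟨a, ha, rfl⟩ h hc
    have hc' : Commute (g⁻¹ * h * g) a := by
      refine comm_of_cj (g := g) ?_
      rwa [show g * (g⁻¹ * h * g) * g⁻¹ = h by group]
    have e0 : h * (g * d * g⁻¹) * h⁻¹ = g * (g⁻¹ * h * g * d * (g⁻¹ * h * g)⁻¹) * g⁻¹ := by group
    rcases F.cases a ha _ hc' with e | e
    · exact Or.inl (by rw [e0, e])
    · exact Or.inr (by rw [e0, e]; group)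
  perf1 := by
    rintro _ ⟨a, ha, rfl⟩
    have := perfect_map (cj g) (F.perf1 a ha)
    rwa [cn_map hn] at this
  perf2 := by
    rintro _ ⟨a, ha, rfl⟩ _ ⟨b, hb, rfl⟩ hne hc
    have := perfect_map (cj g) (F.perf2 a ha b hb (fun e => hne (by rw [e])) (comm_of_cj hc))
    rwa [cn_map hn] at this
  classify := by
    intro y hy hyy hy1
    obtain ⟨z, hz, rfl⟩ := exists_cn_conj hn g (s := [d]) hy
    rw [show g * z * g⁻¹ * (g * z * g⁻¹) = g * (z * z) * g⁻¹ by group, conj_eq_one_iff] at hyy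
    rcases F.classify z hz hyy (fun e => hy1 (by rw [e]; group)) with
      h | ⟨a, b, ha, hb, n, c, rfl⟩ | ⟨a, b, c, h, rfl⟩
    · exact Or.inl ⟨z, h, rfl⟩
    · exact Or.inr (Or.inl ⟨_, _, ⟨a, ha, rfl⟩, ⟨b, hb, rfl⟩, fun e => n (cj_inj e), cj_comm g c,
        by group⟩)
    · exact Or.inr (Or.inr ⟨_, _, _, h.map g, by group⟩)
  moves1 := by
    rintro _ ⟨a, ha, rfl⟩ _ ⟨b, hb, rfl⟩ hne hc
    obtain ⟨k, hk, e⟩ := F.moves1 a ha b hb (fun e => hne (by rw [e])) (comm_of_cj hc)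
    exact ⟨_, cn_conj_mem hn g (s := [d, a]) hk, fun q => e (by rw [cj_cj] at q; exact cj_inj q)⟩
  moves2 := by
    intro a b c h
    obtain ⟨a', b', c', h', rfl, rfl, rfl⟩ := h.exists_pre
    obtain ⟨k, hk, e⟩ := F.moves2 a' b' c' h'
    exact ⟨_, cn_conj_mem hn g (s := [d, a', b']) hk, fun q => e (by rw [cj_cj] at q; exact cj_inj q)⟩
  swap2 := by
    rintro _ ⟨a, ha, rfl⟩ _ ⟨b, hb, rfl⟩ hne hc
    obtain ⟨k, hk, e1, e2⟩ := F.swap2 a ha b hb (fun e => hne (by rw [e])) (comm_of_cj hc)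
    exact ⟨_, cn_conj_mem hn g (s := [d]) hk, by rw [cj_cj, e1], by rw [cj_cj, e2]⟩
  perm2 := by
    rintro _ ⟨a, ha, rfl⟩ _ ⟨b, hb, rfl⟩ hne hc k hk hkc
    obtain ⟨y, hy, rfl⟩ := exists_cn_conj hn g (s := [d]) hk
    rw [cj_cj, cj_cj]
    refine (F.perm2 a ha b hb (fun e => hne (by rw [e])) (comm_of_cj hc) y hy (comm_of_cj (g := g) ?_)).imp
      (fun e => ⟨by rw [e.1], by rw [e.2]⟩) (fun e => ⟨by rw [e.1], by rw [e.2]⟩)
    rwa [show g * (a * b) * g⁻¹ = g * a * g⁻¹ * (g * b * g⁻¹) by group]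
  perm3 := by
    intro a b c h k hk hkc x hx
    obtain ⟨a', b', c', h', rfl, rfl, rfl⟩ := h.exists_pre
    obtain ⟨y, hy, rfl⟩ := exists_cn_conj hn g (s := [d]) hk
    have hyc : Commute y (a' * b' * c') := by
      refine comm_of_cj (g := g) ?_
      rwa [show g * (a' * b' * c') * g⁻¹ = g * a' * g⁻¹ * (g * b' * g⁻¹) * (g * c' * g⁻¹) by group]
    have key := F.perm3 a' b' c' h' y hy hyc
    simp only [List.mem_cons, List.not_mem_nil, or_false] at hx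
    rcases hx with rfl | rfl | rfl <;> rw [cj_cj]
    · exact (key a' (by simp)).imp (fun e => by rw [e]) (Or.imp (fun e => by rw [e]) fun e => by rw [e])
    · exact (key b' (by simp)).imp (fun e => by rw [e]) (Or.imp (fun e => by rw [e]) fun e => by rw [e])
    · exact (key c' (by simp)).imp (fun e => by rw [e]) (Or.imp (fun e => by rw [e]) fun e => by rw [e])
  trans3 := by
    intro a b c a₁ b₁ c₁ h h₁
    obtain ⟨a', b', c', h', rfl, rfl, rfl⟩ := h.exists_pre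
    obtain ⟨a₂, b₂, c₂, h₂, rfl, rfl, rfl⟩ := h₁.exists_pre
    obtain ⟨k, hk, e1, e2, e3⟩ := F.trans3 a' b' c' a₂ b₂ c₂ h' h₂
    exact ⟨_, cn_conj_mem hn g (s := [d]) hk, by rw [cj_cj, e1], by rw [cj_cj, e2], by rw [cj_cj, e3]⟩
  kernel := by
    rintro _ ⟨a, ha, rfl⟩ _ ⟨b, hb, rfl⟩ hne hc u hu hall
    obtain ⟨y, hy, rfl⟩ := exists_cn_conj hn g (s := [d, a, b]) hu
    rcases F.kernel a ha b hb (fun e => hne (by rw [e])) (comm_of_cj hc) y hy (fun x hx =>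
        comm_of_cj (hall _ (cn_conj_mem hn g (s := [d, a, b]) hx))) with rfl | rfl | rfl | rfl
    · left; group
    · right; left; rfl
    · right; right; left; rfl
    · right; right; right; group
  ind3 := by
    intro a b c h e
    obtain ⟨a', b', c', h', rfl, rfl, rfl⟩ := h.exists_pre
    exact F.ind3 a' b' c' h' (cj_inj (g := g) (by rw [← e]; group))

end Cfsg.Agent.H41.AutFi
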