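import Cfsg.Agent.H2.FiCentral.Engine

/-!
Gluing maps of neighbourhoods into a map of whole classes, when in the target a member commuting with the
product of a commuting pair commutes with the pair (no linking of common neighbours is assumed).
-/

set_option autoImplicit false

namespace Cfsg.Agent.H41.AutFi

open Cfsg.Agent.H93
open Cfsg.Agent.H2.FiCentral (exists_sys sys_equiv agree_unique)
open Cfsg.Agent.H61.Glue (TI Closed closed_nb commute_iff_conj Lvl IsExt Agree Sys fix_conj)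

/-- a member commuting with the product of a commuting pair commutes with the first of the pair -/
def PairProp {G : Type*} [Group G] (D : Set G) : Prop :=
  ∀ a ∈ D, ∀ b ∈ nb D a, ∀ v ∈ D, Commute v (a * b) → Commute v a

variable {G G' : Type*} [Group G] [Group G'] {D : Set G} {D' : Set G'}

section

variable (L : Lvl D) (hD' : H2.FiCentral.Inv D') (hP : PairProp D') {a : G} {a' : G'} {φ : G → G'} (ha : a ∈ D)
  {ψ : G → G → G'}

include L hD' hP ha

theorem far_const (hφ : TI φ (nb D a) (nb D' a')) (h : Sys D D' a a' φ ψ) {z y r : G} (hz : z ∈ D)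
    (hn : ¬ Commute a z) (hy : y ∈ common D a z) (hr : r ∈ common D a z) : ψ y z = ψ r z := by
  have htt := L.core.tt
  have zy : ∀ {y}, y ∈ common D a z → z ∈ nb D y := fun hy => nb_symm hz hy.2
  have cons : ∀ {y r}, y ∈ common D a z → r ∈ common D a z → Commute y r → ψ y z = ψ r z :=
    fun hy hr hc => h.2 _ hy.1 _ hr.1 hc z ⟨zy hy, zy hr⟩
  have swap : ∀ {y r}, y ∈ common D a z → r ∈ common D a z →
      ψ (y * r * y) z = φ y * ψ r z * φ y := fun {y r} hy hr => by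
    have := sys_equiv L hD' ha hφ h hy.1 hr.1 (zy hr)
    rwa [fix_conj htt (zy hy) hy.1.1] at this
  by_cases c : Commute y r
  · exact cons hy hr c
  obtain ⟨m, hm⟩ := L.rfar r hr.1.1 a (nb_symm ha hr.1) z (zy hr) hn
  have hmS : m ∈ common D a z := ⟨hm.1.2, hm.2⟩
  by_cases cm : Commute y m
  · exact (cons hy hmS cm).trans (cons hmS hr hm.1.1.2.2.symm)
  have e1 : φ y * ψ r z * φ y = φ r * ψ y z * φ r := by
    rw [← swap hy hr, ← swap hr hy, htt.braid hy.1.1 hr.1.1 c]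
  have e2 : φ y * ψ m z * φ y = φ m * ψ y z * φ m := by
    rw [← swap hy hmS, ← swap hmS hy, htt.braid hy.1.1 hm.1.2.1 cm]
  rw [cons hmS hr hm.1.1.2.2.symm, e1] at e2
  have hr' := (hφ.mem hr.1).1
  have hm' := (hφ.mem hmS.1).1
  have hv := (h.1 y hy.1).1.mem (zy hy)
  have cv : Commute (ψ y z) (φ r * φ m) := by
    show ψ y z * (φ r * φ m) = φ r * φ m * ψ y z
    calc ψ y z * (φ r * φ m) = φ r * φ r * ψ y z * (φ r * φ m) := by
          rw [hD'.sq _ hr', one_mul]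
      _ = φ r * (φ r * ψ y z * φ r) * φ m := by group
      _ = φ r * (φ m * ψ y z * φ m) * φ m := by rw [e2]
      _ = φ r * φ m * ψ y z * (φ m * φ m) := by group
      _ = φ r * φ m * ψ y z := by rw [hD'.sq _ hm', mul_one]
  have hrm : φ m ∈ nb D' (φ r) := ⟨hm', fun e => hm.1.1.2.1 (hφ.1.injOn hmS.1 hr.1 e),
    (hφ.comm (closed_nb htt a) (hD'.closed_nb a') hr.1 hmS.1).mpr hm.1.1.2.2⟩
  have hc := hP _ hr' _ hrm _ hv.1 cv
  rw [(commute_iff_conj (hD'.sq _ hr')).mp hc.symm] at e1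
  calc ψ y z = φ y * ψ y z * φ y := (hD'.fix_conj hv (hφ.mem hy.1).1).symm
    _ = φ y * (φ y * ψ r z * φ y) * φ y := by rw [e1]
    _ = ψ r z := hD'.conj_conj (hφ.mem hy.1).1 _

theorem exists_glue (hφ : TI φ (nb D a) (nb D' a')) (ha' : a' ∈ D') (h : Sys D D' a a' φ ψ) :
    ∃ f : G → G', Set.MapsTo f D D' ∧ f a = a' ∧ (∀ v ∈ nb D a, f v = φ v) ∧
      (∀ w ∈ nb D a, ∀ v ∈ nb D w, f v = ψ w v) ∧
      ∀ q ∈ nb D a, ∀ z ∈ D, f (q * z * q) = f q * f z * f q := by
  classical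
  have htt := L.core.tt
  let f : G → G' := fun z =>
    if z = a then a' else if Commute a z then φ z else
      if hh : ∃ y, y ∈ common D a z then ψ hh.choose z else 1
  have fa : f a = a' := if_pos rfl
  have fnb : ∀ v ∈ nb D a, f v = φ v := fun v hv => by
    simp only [f, if_neg hv.2.1, if_pos hv.2.2]
  have ffar : ∀ {z y}, z ∈ D → ¬ Commute a z → y ∈ common D a z → f z = ψ y z := by
    intro z y hz hn hy
    have hne : z ≠ a := fun e => hn (e ▸ Commute.refl a)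
    have hh : ∃ y, y ∈ common D a z := ⟨y, hy⟩
    simp only [f, if_neg hne, if_neg hn, dif_pos hh]
    exact far_const L hD' hP ha hφ h hz hn hh.choose_spec hy
  have fψ : ∀ w ∈ nb D a, ∀ v ∈ nb D w, f v = ψ w v := by
    intro w hw v hv
    by_cases e : v = a
    · subst e; rw [fa, (h.1 w hw).2.1]
    by_cases c : Commute a v
    · rw [fnb v ⟨hv.1, e, c⟩, (h.1 w hw).2.2 v ⟨⟨hv.1, e, c⟩, hv⟩]
    · exact ffar hv.1 c ⟨hw, nb_symm hw.1 hv⟩
  refine ⟨f, fun z hz => ?_, fa, fnb, fψ, fun q hq z hz => ?_⟩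
  · by_cases e : z = a
    · rw [e, fa]; exact ha'
    by_cases c : Commute a z
    · rw [fnb z ⟨hz, e, c⟩]; exact (hφ.mem ⟨hz, e, c⟩).1
    · obtain ⟨y, hy⟩ := L.far a ha z hz c
      rw [ffar hz c hy]
      exact ((h.1 y hy.1).1.mem (nb_symm hz hy.2)).1
  · have hq' := hφ.mem hq
    have qq := htt.sq q hq.1
    have qa : q * a * q = a := (commute_iff_conj qq).mp hq.2.2.symm
    by_cases e : z = a
    · rw [e, qa, fa, fnb q hq]
      exact ((commute_iff_conj (hD'.sq _ hq'.1)).mp hq'.2.2.symm).symm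
    by_cases c : Commute a z
    · have hv : z ∈ nb D a := ⟨hz, e, c⟩
      rw [fnb _ ((closed_nb htt a q hq).2 z hv), fnb q hq, fnb z hv, hφ.2 q hq z hv]
    · obtain ⟨y, hy⟩ := L.far a ha z hz c
      have hzy := nb_symm hz hy.2
      have hm : q * z * q ∈ nb D (q * y * q) := by
        have := htt.nb_conj q hzy; rwa [htt.inv_eq hq.1] at this
      rw [fψ _ ((closed_nb htt a q hq).2 y hy.1) _ hm, sys_equiv L hD' ha hφ h hq hy.1 hzy,
        fnb q hq, fψ y hy.1 z hzy]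

end

/-- gluing: compatible extensions along every edge give a map of whole classes -/
theorem exists_map (L : Lvl D) (hD' : H2.FiCentral.Inv D') (hP : PairProp D') (Ok : G → G' → (G → G') → Prop)
    (hext : ∀ a ∈ D, ∀ a' ∈ D', ∀ φ, Ok a a' φ → TI φ (nb D a) (nb D' a') ∧ ∀ x ∈ nb D a,
      (∃ ψ, IsExt D D' a a' φ x ψ) ∧ ∀ ψ, IsExt D D' a a' φ x ψ → Ok x (φ x) ψ)
    {a : G} (ha : a ∈ D) {a' : G'} (ha' : a' ∈ D') {φ : G → G'} (hok : Ok a a' φ) :
    ∃ f : G → G', Set.MapsTo f D D' ∧ Set.InjOn f D ∧ (∀ p ∈ D, ∀ q ∈ D, f (p * q * p) = f p * f q * f p) ∧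
      (∀ z ∈ D, TI f (nb D z) (nb D' (f z))) ∧ f a = a' ∧ ∀ v ∈ nb D a, f v = φ v := by
  have htt := L.core.tt
  obtain ⟨hφ, hx⟩ := hext a ha a' ha' φ hok
  obtain ⟨x0, hx0⟩ := L.core.edge a ha
  obtain ⟨ψ00, h00⟩ := (hx x0 hx0).1
  obtain ⟨ψ, hψ, -⟩ := exists_sys L hD' ha (fun x h => (hx x h).1) hx0 h00
  obtain ⟨f, fmem, fa, fnb, fψ, feq⟩ := exists_glue L hD' hP ha hφ ha' hψ
  have base : ∀ x ∈ nb D a, ∀ b ∈ nb D x,
      (∀ z ∈ D, f (b * z * b) = f b * f z * f b) ∧ TI f (nb D b) (nb D' (f b)) := by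
    intro x hxa
    have hax := nb_symm ha hxa
    have hEx := hψ.1 x hxa
    obtain ⟨hφ', hx'⟩ := hext x hxa.1 (φ x) (hφ.mem hxa).1 (ψ x) ((hx x hxa).2 _ hEx)
    have hbase : IsExt D D' x (φ x) (ψ x) a φ :=
      ⟨hEx.2.1.symm ▸ hφ, rfl, fun v hv => (hEx.2.2 v ⟨hv.2, hv.1⟩).symm⟩
    obtain ⟨χ, hχ, χa⟩ := exists_sys L hD' hxa.1 (fun w h => (hx' w h).1) hax hbase
    obtain ⟨g, -, gx, gnb, gχ, geq⟩ := exists_glue L hD' hP hxa.1 hφ' (hφ.mem hxa).1 hχ
    have same : ∀ z ∈ D, g z = f z := by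
      intro z hz
      by_cases e1 : z = x
      · rw [e1, gx, fnb x hxa]
      by_cases c1 : Commute x z
      · rw [gnb z ⟨hz, e1, c1⟩, fψ x hxa z ⟨hz, e1, c1⟩]
      by_cases e2 : z = a
      · exact absurd (e2 ▸ hxa.2.2.symm) c1
      by_cases c2 : Commute a z
      · have hv : z ∈ nb D a := ⟨hz, e2, c2⟩
        rw [fnb z hv, gχ a hax z hv, χa z hv]
      rcases L.meets z hz a ha (fun q => c2 q.symm) x hxa with q | ⟨y, hy, hxy⟩
      · exact absurd q.1.2.2.symm c1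
      · have hyx : y ∈ nb D x := nb_symm hy.1.1 hxy
        have hya := hy.2
        have hzy := nb_symm hz hy.1
        have i1 : IsExt D D' x (φ x) (ψ x) y (ψ y) := by
          refine ⟨?_, (hψ.1 y hya).2.2 x ⟨hxa, hxy⟩, fun v hv =>
            (hψ.2 x hxa y hya hyx.2.2 v hv).symm⟩
          rw [hEx.2.2 y ⟨hya, hyx⟩]
          exact (hψ.1 y hya).1
        have := agree_unique L hD' hxa.1 hax hyx hya.2.2 i1 (hχ.1 y hyx)
          (fun v hv => ((hψ.1 y hya).2.2 v hv).symm)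
          (fun v hv => (χa v hv.1).symm.trans (hχ.2 a hax y hyx hya.2.2 v hv)) z hzy
        rw [gχ y hyx z hzy, this, fψ y hya z hzy]
    intro b hb
    refine ⟨fun z hz => ?_, ?_⟩
    · rw [← same _ (htt.conj_self_mem hb.1 hz), geq b hb z hz, same b hb.1, same z hz]
    · have e : f b = ψ x b := fψ x hxa b hb
      rw [e]
      refine (hχ.1 b hb).1.congr (closed_nb htt b) fun v hv => ?_
      rw [← same v hv.1, gχ b hb v hv]
  have all : ∀ b ∈ D, ∀ z ∈ D, f (b * z * b) = f b * f z * f b := by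
    intro b hb
    by_cases e : b = a
    · exact e ▸ (base x0 hx0 a (nb_symm ha hx0)).1
    by_cases c : Commute a b
    · exact feq b ⟨hb, e, c⟩
    · obtain ⟨y, hy⟩ := L.far a ha b hb c
      exact (base y hy.1 b (nb_symm hb hy.2)).1
  have farimg : ∀ {z}, z ∈ D → ¬ Commute a z → ¬ Commute a' (f z) := by
    intro z hz c q
    obtain ⟨y, hy⟩ := L.far a ha z hz c
    have hzy := nb_symm hz hy.2
    rw [fψ y hy.1 z hzy, ← (hψ.1 y hy.1).2.1] at q
    exact c (((hψ.1 y hy.1).1.comm (closed_nb htt y) (hD'.closed_nb _) (nb_symm ha hy.1) hzy).mp q)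
  have inj_near : ∀ {z w}, z ∈ D → w ∈ D → Commute a z → f z = f w → z = w := by
    intro z w hz hw cz e
    have cw : Commute a w := by
      by_contra cw
      refine farimg hw cw ?_
      rw [← e]
      by_cases e1 : z = a
      · rw [e1, fa]
      · rw [fnb z ⟨hz, e1, cz⟩]; exact (hφ.mem ⟨hz, e1, cz⟩).2.2
    by_cases e1 : z = a <;> by_cases e2 : w = a
    · rw [e1, e2]
    · rw [e1, fa, fnb w ⟨hw, e2, cw⟩] at e
      exact absurd e.symm (hφ.mem ⟨hw, e2, cw⟩).2.1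
    · rw [e2, fa, fnb z ⟨hz, e1, cz⟩] at e
      exact absurd e (hφ.mem ⟨hz, e1, cz⟩).2.1
    · rw [fnb z ⟨hz, e1, cz⟩, fnb w ⟨hw, e2, cw⟩] at e
      exact hφ.1.injOn ⟨hz, e1, cz⟩ ⟨hw, e2, cw⟩ e
  refine ⟨f, fmem, fun z hz w hw e => ?_, all, fun z hz => ?_, fa, fnb⟩
  · by_cases cz : Commute a z
    · exact inj_near hz hw cz e
    by_cases cw : Commute a w
    · exact (inj_near hw hz cw e.symm).symm
    obtain ⟨y, hy⟩ := L.far a ha z hz cz
    have hzy := nb_symm hz hy.2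
    have ew : w * y * w = y := by
      refine (inj_near hy.1.1 (htt.conj_self_mem hw hy.1.1) hy.1.2.2 ?_).symm
      rw [all w hw y hy.1.1, ← e, fψ y hy.1 z hzy, fnb y hy.1]
      exact ((commute_iff_conj (hD'.sq _ ((hψ.1 y hy.1).1.mem hzy).1)).mp
        ((hψ.1 y hy.1).1.mem hzy).2.2.symm).symm
    have hwy : w ∈ nb D y := ⟨hw, fun q => cw (q ▸ hy.1.2.2),
      ((commute_iff_conj (htt.sq w hw)).mpr ew).symm⟩
    rw [fψ y hy.1 z hzy, fψ y hy.1 w hwy] at e
    exact (hψ.1 y hy.1).1.1.injOn hzy hwy e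
  · by_cases e1 : z = a
    · rw [e1, fa]
      exact hφ.congr (closed_nb htt a) fnb
    by_cases c : Commute a z
    · have hv : z ∈ nb D a := ⟨hz, e1, c⟩
      rw [fnb z hv]
      exact (hψ.1 z hv).1.congr (closed_nb htt z) (fψ z hv)
    · obtain ⟨y, hy⟩ := L.far a ha z hz c
      exact (base y hy.1 z (nb_symm hz hy.2)).2


end Cfsg.Agent.H41.AutFi
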