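import Cfsg.Agent.H41.AutFi.Engine
import Cfsg.Agent.H2.FiCentral.Ext
import Cfsg.Agent.H61.Glue.Ext24

/-!
A map between the neighbourhood of a member of a class of type M(24) and that of a member of a conjugation
class with transitive neighbour centralisers, lifting injectively to the groups they generate, glues.
-/

set_option autoImplicit false

namespace Cfsg.Agent.H41.AutFi

open Cfsg.Agent.H93
open Cfsg.Agent.H61.M24 (Geo24)
open Cfsg.Agent.H2.FiCentral (Loc)
open Cfsg.Agent.H61.Glue (TI Closed closed_nb IsExt mult_one mult_list exists_swap lvl24 vfr wpt_facts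
  tr3 tr3_central inner_of_values ext_cases conj_common_nb triple_space twoCases_pair rq rq_mul rq_nb)

variable {G G' : Type*} [Group G] [Group G'] {D : Set G} {D' : Set G'}

/-- what is used about the source beyond its geometry -/
structure Src (D : Set G) : Prop where
  geo : Geo24 D
  two : ∀ a ∈ D, ∀ g ∈ nbSub D a, (∀ v ∈ nb D a, Commute g v) → g = 1 ∨ g = a

/-- a map of neighbourhoods lifting injectively -/
def Lifts (D : Set G) (D' : Set G') (a : G) (a' : G') (φ : G → G') : Prop :=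
  TI φ (nb D a) (nb D' a') ∧ ∃ E : G → G',
    (∀ p ∈ nbSub D a, ∀ q ∈ nbSub D a, E (p * q) = E p * E q) ∧ Set.InjOn E (nbSub D a) ∧
      (∀ v ∈ nb D a, E v = φ v) ∧ E a = a'

theorem Src.self (hS : Src D) {a : G} (ha : a ∈ D) : a ∈ nbSub D a := by
  rw [← hS.geo.cent a ha]
  exact Subgroup.mem_centralizer_singleton_iff.mpr rfl

/-- what centralises the common neighbours of a triangle lies in the group of the triangle -/
theorem Src.eight (hS : Src D) {a x y : G} (ha : a ∈ D) (hx : x ∈ nb D a)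
    (hy : y ∈ nb D a ∩ nb D x) {g : G} (hg : g ∈ nbSub D a) (gx : Commute g x) (gy : Commute g y)
    (gS : ∀ v ∈ nb D a ∩ nb D x ∩ nb D y, Commute g v) :
    ∃ w, (w = 1 ∨ w = x ∨ w = y ∨ w = x * y) ∧ (g = w ∨ g = w * a) := by
  have hcore := hS.geo.data.core
  obtain ⟨h23, hM⟩ := hS.geo.data.res a ha
  have hY := hcore.rimg_nb ha hx hy
  have hr : ∀ {v}, v ∈ nb D a → Commute g v → Commute (rq D a g) (rimg D a v) := fun {v} hv c => by
    have hm : v ∈ nbSub D a := Subgroup.subset_closure hv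
    show rq D a g * rimg D a v = rimg D a v * rq D a g
    rw [← rq_nb hv, ← rq_mul hg hm, ← rq_mul hm hg, c.eq]
  have hcc : rq D a g ∈ nbSub (resSet D a) (rimg D a x) := by
    rw [← h23.cent _ (rimg_mem hx)]
    exact Subgroup.mem_centralizer_singleton_iff.mpr (hr hx gx).eq
  have key := hM.kernel_pair (rimg_mem hx) hY hcc (hr hy.1 gy) (fun v hv => by
    obtain ⟨z, hz, e⟩ := hcore.rimg_nb_surj ha hx hv.1
    obtain ⟨z', hz', e'⟩ := hcore.rimg_nb_surj ha hy.1 hv.2
    rw [(hcore.rimg_inj ha hz'.1 hz.1).mp (e'.trans e.symm)] at hz'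
    rw [← e]
    exact hr hz.1 (gS z ⟨hz, hz'.2⟩))
  have hxm : x ∈ nbSub D a := Subgroup.subset_closure hx
  have hym : y ∈ nbSub D a := Subgroup.subset_closure hy.1
  obtain ⟨w, hw, wm, ew⟩ : ∃ w, (w = 1 ∨ w = x ∨ w = y ∨ w = x * y) ∧ w ∈ nbSub D a ∧
      rq D a g = rq D a w := by
    rcases key with e | e | e | e
    · refine ⟨1, Or.inl rfl, one_mem _, e.trans ?_⟩
      rw [rq, dif_pos (one_mem _)]
      exact (QuotientGroup.mk_one _).symm
    · exact ⟨x, Or.inr (Or.inl rfl), hxm, e.trans (rq_nb hx).symm⟩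
    · exact ⟨y, Or.inr (Or.inr (Or.inl rfl)), hym, e.trans (rq_nb hy.1).symm⟩
    · exact ⟨x * y, Or.inr (Or.inr (Or.inr rfl)), mul_mem hxm hym, e.trans (by
        rw [rq_mul hxm hym, rq_nb hx, rq_nb hy.1])⟩
  refine ⟨w, hw, ?_⟩
  rw [rq, rq, dif_pos hg, dif_pos wm] at ew
  have hc := QuotientGroup.eq.mp ew.symm
  have := hS.two a ha (w⁻¹ * g) (mul_mem (inv_mem wm) hg) fun v hv =>
    congrArg Subtype.val (Subgroup.mem_center_iff.mp hc ⟨v, Subgroup.subset_closure hv⟩).symm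
  rcases this with e | e
  · exact Or.inl (inv_mul_eq_one.mp e).symm
  · exact Or.inr (inv_mul_eq_iff_eq_mul.mp e)

variable [Finite G] (hS : Src D) (hD' : Loc D') {a : G} {a' : G'} {φ : G → G'}

include hS hD'

/-- a lifting map of neighbourhoods extends to a neighbour, and the extension lifts -/
theorem exists_ext (ha : a ∈ D) (ha' : a' ∈ D') (hok : Lifts D D' a a' φ) {x : G}
    (hx : x ∈ nb D a) : ∃ ψ, IsExt D D' a a' φ x ψ ∧ Lifts D D' x (φ x) ψ := by
  obtain ⟨hφ, E, hE, hEi, Eφ, Ea⟩ := hok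
  have h := hS.geo
  have htt := h.data.core.tt
  have htt' := hD'.toInv
  have hx' := hφ.mem hx
  have hax := nb_symm ha hx
  obtain ⟨s, sa, sx⟩ := exists_swap h ha hx
  obtain ⟨s', sa', sx'⟩ := hD'.exists_swap ha' hx'
  set ψ0 : G → G' := fun v => s' * φ (s * v * s⁻¹) * s'⁻¹ with hψ0_def
  set E0 : G → G' := fun v => s' * E (s * v * s⁻¹) * s'⁻¹ with hE0_def
  have hψ0 : TI ψ0 (nb D x) (nb D' (φ x)) := by
    have t1 := TI.conj_nb htt s x
    rw [sx] at t1
    have t2 := htt'.conj_nb s' a'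
    rw [sa'] at t2
    exact t2.comp (hφ.comp t1)
  have ψ0a : ψ0 a = a' := by simp only [ψ0]; rw [sa, sx']
  have sub : ∀ g ∈ nbSub D x, s * g * s⁻¹ ∈ nbSub D a := fun g hg => by
    rw [← h.cent x hx.1] at hg
    rw [← h.cent a ha]
    refine Subgroup.mem_centralizer_singleton_iff.mpr ?_
    have e := (show Commute g x from Subgroup.mem_centralizer_singleton_iff.mp hg).map
      (MulAut.conj s).toMonoidHom
    rw [show (MulAut.conj s).toMonoidHom x = a from sx] at e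
    exact e.eq
  have hE0 : ∀ p ∈ nbSub D x, ∀ q ∈ nbSub D x, E0 (p * q) = E0 p * E0 q := fun p hp q hq => by
    simp only [E0]
    rw [show s * (p * q) * s⁻¹ = (s * p * s⁻¹) * (s * q * s⁻¹) by group,
      hE _ (sub p hp) _ (sub q hq)]
    group
  have hE0i : Set.InjOn E0 (nbSub D x) := fun p hp q hq e =>
    mul_left_cancel (mul_right_cancel (hEi (sub p hp) (sub q hq)
      (mul_left_cancel (mul_right_cancel e))))
  have E0ψ : ∀ v ∈ nb D x, E0 v = ψ0 v := fun v hv => by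
    have hv' : s * v * s⁻¹ ∈ nb D a := sx ▸ htt.nb_conj s hv
    simp only [E0, ψ0, Eφ _ hv']
  have E0x : E0 x = φ x := by simp only [E0]; rw [sx, Ea, sa']
  -- the comparison on the common neighbours
  set C := nb D a ∩ nb D x with hC_def
  set C' := nb D' a' ∩ nb D' (φ x)
  have hC : Closed C := (closed_nb htt a).inter (closed_nb htt x)
  have rφ : TI φ C C' := H2.FiCentral.restrict htt htt' hφ hx
  have rψ : TI ψ0 C C' := by
    have := H2.FiCentral.restrict htt htt' hψ0 hax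
    rwa [ψ0a, Set.inter_comm, Set.inter_comm (nb D' (φ x))] at this
  set δ : G → G := Function.invFunOn ψ0 C ∘ φ with hδ_def
  have hδ : TI δ C C := (rψ.symm hC).comp rφ
  have ψδ : ∀ v ∈ C, ψ0 (δ v) = φ v := fun v hv =>
    Function.invFunOn_eq (rψ.1.surjOn (rφ.mem hv))
  obtain ⟨y, hy'⟩ : ∃ y, y ∈ nb D x ∩ nb D a := by
    obtain ⟨v, hv, -⟩ := (h.data.res x hx.1).2.core.edge _ (rimg_mem hax) |>.imp fun e he =>
      (⟨he, trivial⟩ : e ∈ _ ∧ True)
    obtain ⟨y, hy, -⟩ := h.data.core.rimg_nb_surj hx.1 hax hv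
    exact ⟨y, hy⟩
  have hy : y ∈ C := ⟨hy'.2, hy'.1⟩
  obtain ⟨k1, k1a, k1x, k1y⟩ := conj_common_nb h ha hx hy (hδ.mem hy)
  set δ1 : G → G := fun v => k1⁻¹ * δ v * k1⁻¹⁻¹ with hδ1_def
  have fixc : ∀ {k v : G}, Commute k v → k * v * k⁻¹ = v := fun c => mul_inv_eq_iff_eq_mul.mpr c.eq
  have hδ1 : TI δ1 C C := by
    have := TI.conj_inter htt k1⁻¹ a x
    rw [fixc k1a.inv_left, fixc k1x.inv_left] at this
    exact this.comp hδ
  have δ1y : δ1 y = y := by simp only [δ1]; rw [← k1y]; group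
  -- the lift of the moved map
  set E1 : G → G' := fun v => E0 (k1 * v * k1⁻¹) with hE1_def
  have hk1 : k1 ∈ nbSub D x := by
    rw [← h.cent x hx.1]; exact Subgroup.mem_centralizer_singleton_iff.mpr k1x.eq
  have m1 : ∀ {p}, p ∈ nbSub D x → k1 * p * k1⁻¹ ∈ nbSub D x := fun hp =>
    mul_mem (mul_mem hk1 hp) (inv_mem hk1)
  have hE1 : ∀ p ∈ nbSub D x, ∀ q ∈ nbSub D x, E1 (p * q) = E1 p * E1 q := fun p hp q hq => by
    simp only [E1]
    rw [show k1 * (p * q) * k1⁻¹ = (k1 * p * k1⁻¹) * (k1 * q * k1⁻¹) by group,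
      hE0 _ (m1 hp) _ (m1 hq)]
  have E1δ : ∀ v ∈ C, E1 (δ1 v) = φ v := fun v hv => by
    simp only [E1, δ1]
    rw [show k1 * (k1⁻¹ * δ v * k1⁻¹⁻¹) * k1⁻¹ = δ v by group, E0ψ _ (hδ.mem hv).2, ψδ v hv]
  have E1a : E1 a = a' := by simp only [E1]; rw [fixc k1a, E0ψ a hax, ψ0a]
  have E1x : E1 x = φ x := by simp only [E1]; rw [fixc k1x, E0x]
  have E1y : E1 y = φ y := by
    have := E1δ y hy
    rwa [δ1y] at this
  -- on the common neighbours of the triple
  set S := C ∩ nb D y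
  have hSc : Closed S := hC.inter (closed_nb htt y)
  have rS : TI δ1 S S := by
    refine ⟨⟨fun v hv => ⟨hδ1.mem hv.1, (hδ1.mem hv.1).1.1, fun q => ?_, ?_⟩,
      hδ1.1.injOn.mono Set.inter_subset_left, fun z hz => ?_⟩, fun p hp q hq => hδ1.2 p hp.1 q hq.1⟩
    · exact hv.2.2.1 (hδ1.1.injOn hv.1 hy (q.trans δ1y.symm))
    · have := (hδ1.comm hC hC hy hv.1).mpr hv.2.2.2
      rwa [δ1y] at this
    · obtain ⟨v, hv, rfl⟩ := hδ1.1.surjOn hz.1
      have := (hδ1.comm hC hC hy hv).mp (δ1y.symm ▸ hz.2.2.2)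
      exact ⟨v, ⟨hv, hv.1.1, fun q => hz.2.2.1 (q ▸ δ1y), this⟩, rfl⟩
  obtain ⟨F, iF, iFF, hF, ⟨sp⟩⟩ := triple_space h ha hx hy
  have haa := hS.self ha
  have hxa : x ∈ nbSub D a := Subgroup.subset_closure hx
  have hya : y ∈ nbSub D a := Subgroup.subset_closure hy.1
  have haX : a ∈ nbSub D x := Subgroup.subset_closure hax
  have hxX := hS.self hx.1
  have hyX : y ∈ nbSub D x := Subgroup.subset_closure hy.2
  let P : G → Prop := fun g => g ∈ nbSub D a ∧ g ∈ nbSub D x ∧ E1 g = E g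
  have Pmul : ∀ {p q}, P p → P q → P (p * q) := fun {p q} hp hq => ⟨mul_mem hp.1 hq.1,
    mul_mem hp.2.1 hq.2.1, by rw [hE1 _ hp.2.1 _ hq.2.1, hE _ hp.1 _ hq.1, hp.2.2, hq.2.2]⟩
  have Pa : P a := ⟨haa, haX, by rw [E1a, Ea]⟩
  have Px : P x := ⟨hxa, hxX, by rw [E1x, Eφ x hx]⟩
  have Py : P y := ⟨hya, hyX, by rw [E1y, Eφ y hy.1]⟩
  have P1 : P 1 := ⟨one_mem _, one_mem _, by rw [mult_one hE1, mult_one hE]⟩
  have central : ∀ l : List G, (∀ v ∈ l, v ∈ S) → (∀ z ∈ S, Commute l.prod z) → P l.prod := by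
    intro l hl hc
    obtain ⟨w, hw, hg⟩ := hS.eight ha hx hy
      (Subgroup.list_prod_mem _ fun v hv => Subgroup.subset_closure (hl v hv).1.1)
      (Commute.list_prod_left _ _ fun v hv => (hl v hv).1.2.2.2.symm)
      (Commute.list_prod_left _ _ fun v hv => (hl v hv).2.2.2.symm) hc
    have hw' : P w := by
      rcases hw with rfl | rfl | rfl | rfl
      exacts [P1, Px, Py, Pmul Px Py]
    rcases hg with e | e <;> rw [e]
    exacts [hw', Pmul hw' Pa]
  have hval : ∀ P Q : Fin 3 → Vec F, Plane P Q → (∀ i j, hb (Q i) (Q j) = 0) →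
      ∀ o : F, o ^ 2 + o + 1 = 0 → ∀ π : F, π ≠ 0 →
      δ1 (sp.pt (P 0)) * δ1 (sp.pt (P 1)) * δ1 (sp.pt (P 2)) * (δ1 (sp.pt (vfr P o π 0)) *
        δ1 (sp.pt (vfr P o π 1)) * δ1 (sp.pt (vfr P o π 2))) = tr3 sp P * tr3 sp (vfr P o π) := by
    intro P Q p hQ o ho π hπ
    have hV := fun k : Fin 3 =>
      (wpt_facts hF p (Q := Q) (o ^ (k : ℕ)) (π * (o ^ (k : ℕ)) ^ 2)).1
    set l : List G := [sp.pt (P 0), sp.pt (P 1), sp.pt (P 2), sp.pt (vfr P o π 0),
      sp.pt (vfr P o π 1), sp.pt (vfr P o π 2)] with hl_def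
    have hl : ∀ v ∈ l, v ∈ S := by
      intro v hv
      simp only [hl_def, List.mem_cons, List.not_mem_nil, or_false] at hv
      rcases hv with rfl | rfl | rfl | rfl | rfl | rfl
      exacts [sp.mem (p.pt 0), sp.mem (p.pt 1), sp.mem (p.pt 2), sp.mem (hV 0), sp.mem (hV 1),
        sp.mem (hV 2)]
    have el : l.prod = tr3 sp P * tr3 sp (vfr P o π) := by
      simp only [hl_def, tr3, List.prod_cons, List.prod_nil, mul_one, mul_assoc]
    have hc : ∀ z ∈ S, Commute l.prod z := fun z hz =>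
      el ▸ tr3_central hF sp p hQ hSc ho hπ hz
    have hl' : ∀ v ∈ l.map δ1, v ∈ S := fun v hv => by
      obtain ⟨u, hu, rfl⟩ := List.mem_map.mp hv
      exact rS.mem (hl u hu)
    have hc' : ∀ z ∈ S, Commute (l.map δ1).prod z := fun z hz => by
      obtain ⟨w, hw, rfl⟩ := rS.1.surjOn hz
      obtain ⟨-, e⟩ := H61.Glue.TI.map_prod hSc hSc rS l hl w hw
      rw [show l.prod * w * l.prod⁻¹ = w from mul_inv_eq_iff_eq_mul.mpr (hc w hw).eq] at e
      exact mul_inv_eq_iff_eq_mul.mp e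
    have e1 : E1 (l.map δ1).prod = E l.prod := by
      rw [mult_list hE1 _ (fun v hv => Subgroup.subset_closure (hl' v hv).1.2),
        mult_list hE _ (fun v hv => Subgroup.subset_closure (hl v hv).1.1), List.map_map]
      refine congrArg List.prod (List.map_congr_left fun v hv => ?_)
      rw [Function.comp_apply, E1δ v (hl v hv).1, Eφ v (hl v hv).1.1]
    obtain ⟨ga, -, ge⟩ := central _ hl' hc'
    obtain ⟨la, -, -⟩ := central l hl hc
    have e2 : (l.map δ1).prod = l.prod := hEi ga la (ge.symm.trans e1)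
    rw [el] at e2
    rw [← e2]
    simp only [hl_def, List.map_cons, List.map_nil, List.prod_cons, List.prod_nil, mul_one,
      mul_assoc]
  obtain ⟨k2, hk2, ek2⟩ := inner_of_values hF hSc sp rS (fun l hnd hlen hmem hcom => by
      refine h.data.ind l hnd ?_ (by omega) (fun z hz => (hmem z hz).1.1.1) hcom
      rintro rfl
      simp at hlen) hval
  have k2c : ∀ {w}, (∀ v ∈ S, Commute w v) → Commute k2 w := fun {w} hw => by
    have hle : Subgroup.closure S ≤ Subgroup.centralizer ({w} : Set G) := by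
      rw [Subgroup.closure_le]
      exact fun v hv => Subgroup.mem_centralizer_singleton_iff.mpr (hw v hv).symm.eq
    exact Subgroup.mem_centralizer_singleton_iff.mp (hle hk2)
  have k2a : Commute k2 a := k2c fun v hv => hv.1.1.2.2
  have k2x : Commute k2 x := k2c fun v hv => hv.1.2.2.2
  have k2y : Commute k2 y := k2c fun v hv => hv.2.2.2
  have hδ2 : TI (fun v => k2⁻¹ * δ1 v * k2⁻¹⁻¹) C C := by
    have := TI.conj_inter htt k2⁻¹ a x
    rw [fixc k2a.inv_left, fixc k2x.inv_left] at this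
    exact this.comp hδ1
  obtain ⟨k, ka, kx, hk⟩ : ∃ k, Commute k a ∧ Commute k x ∧ ∀ v ∈ C, δ v = k * v * k⁻¹ := by
    have back : ∀ v, δ v = k1 * k2 * (k2⁻¹ * δ1 v * k2⁻¹⁻¹) * (k1 * k2)⁻¹ := fun v => by
      simp only [δ1]; group
    rcases twoCases_pair h ha hx _ hδ2 y hy (by rw [δ1y]; exact fixc k2y.inv_left)
      (fun v hv hne hc => by
        rw [ek2 v ⟨hv, hv.1.1, hne, hc⟩]; group) with q | q
    · exact ⟨k1 * k2, k1a.mul_left k2a, k1x.mul_left k2x, fun v hv => by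
        rw [back v, show k2⁻¹ * δ1 v * k2⁻¹⁻¹ = v from q v hv]⟩
    · refine ⟨k1 * k2 * y, (k1a.mul_left k2a).mul_left hy.1.2.2.symm,
        (k1x.mul_left k2x).mul_left hy.2.2.2.symm, fun v hv => ?_⟩
      rw [back v, show k2⁻¹ * δ1 v * k2⁻¹⁻¹ = y * v * y from q v hv, mul_inv_rev (k1 * k2) y,
        htt.inv_eq hy.1.1]
      group
  have hkX : k ∈ nbSub D x := by
    rw [← h.cent x hx.1]; exact Subgroup.mem_centralizer_singleton_iff.mpr kx.eq
  have mk' : ∀ {p}, p ∈ nbSub D x → k * p * k⁻¹ ∈ nbSub D x := fun hp =>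
    mul_mem (mul_mem hkX hp) (inv_mem hkX)
  have hconj := TI.conj_nb htt k x
  rw [fixc kx] at hconj
  refine ⟨fun v => ψ0 (k * v * k⁻¹), ⟨hψ0.comp hconj, ?_, fun v hv => ?_⟩, hψ0.comp hconj,
    fun v => E0 (k * v * k⁻¹), fun p hp q hq => ?_, fun p hp q hq e => ?_, fun v hv => ?_, ?_⟩
  · simp only [fixc ka, ψ0a]
  · simp only [← hk v hv, ψδ v hv]
  · simp only
    rw [show k * (p * q) * k⁻¹ = (k * p * k⁻¹) * (k * q * k⁻¹) by group, hE0 _ (mk' hp) _ (mk' hq)]
  · exact mul_left_cancel (mul_right_cancel (hE0i (mk' hp) (mk' hq) e))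
  · simp only
    rw [E0ψ _ (hconj.mem hv)]
  · simp only [fixc kx, E0x]

/-- lifting maps glue -/
theorem exists_class_map (hP : PairProp D') (ha : a ∈ D) (ha' : a' ∈ D') (hok : Lifts D D' a a' φ) :
    ∃ f : G → G', Set.MapsTo f D D' ∧ Set.InjOn f D ∧
      (∀ p ∈ D, ∀ q ∈ D, f (p * q * p) = f p * f q * f p) ∧
      (∀ z ∈ D, TI f (nb D z) (nb D' (f z))) ∧ f a = a' ∧ ∀ v ∈ nb D a, f v = φ v :=
  exists_map (lvl24 hS.geo) hD'.toInv hP (Lifts D D')
    (fun b hb b' hb' f hf => ⟨hf.1, fun z hz => by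
      obtain ⟨ψ, hψ, hL⟩ := exists_ext hS hD' hb hb' hf hz
      refine ⟨⟨ψ, hψ⟩, fun χ hχ => ?_⟩
      have htt := hS.geo.data.core.tt
      have hbz := nb_symm hb hz
      rcases ext_cases (lvl24 hS.geo) hb hz hψ hχ with q | q
      · obtain ⟨-, E, hE, hi, Eψ, Ez⟩ := hL
        exact ⟨hχ.1, E, hE, hi, fun v hv => (Eψ v hv).trans (q v hv).symm, Ez⟩
      · obtain ⟨-, E, hE, hi, Eψ, Ez⟩ := hL
        have hbm : b ∈ nbSub D z := Subgroup.subset_closure hbz
        have mb : ∀ {p}, p ∈ nbSub D z → b * p * b ∈ nbSub D z := fun hp =>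
          mul_mem (mul_mem hbm hp) hbm
        refine ⟨hχ.1, fun v => E (b * v * b), fun p hp r hr => ?_,
          fun p hp r hr e => mul_left_cancel (mul_right_cancel (hi (mb hp) (mb hr) e)),
          fun v hv => ?_, ?_⟩
        · simp only
          rw [show b * (p * r) * b = (b * p * b) * (b * r * b) by
            rw [show b * p * b * (b * r * b) = b * p * (b * b) * r * b by group, htt.sq b hb,
              mul_one]; group, hE _ (mb hp) _ (mb hr)]
        · simp only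
          rw [Eψ _ ((TI.conj_self htt hb hz).mem hv)]
          exact (q v hv).symm
        · simp only
          rw [Cfsg.Agent.H61.Glue.fix_conj htt hz hb, Ez]⟩)
    ha ha' hok

end Cfsg.Agent.H41.AutFi
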