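import Cfsg.Agent.H41.AutFi.Setting
import Cfsg.Agent.H93.Geo23
import Cfsg.Agent.H33.AutLFi.Final

/-!
The setting from an outer involution `d` commuting with an inner involution `t`, when the centraliser of
`t` is twice a perfect group over the automorphism group of Fi22 and that perfect group is the part
commuting with `d`.
-/

set_option autoImplicit false
set_option maxRecDepth 20000

namespace Cfsg.Agent.H41.AutFi

open Cfsg.Agent.H93
open scoped commutatorElement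

/-- the order of a group mapping onto another with given kernel -/
theorem card_of_map {A : Type*} [Group A] {S : Type*} [Group S] {M P : Subgroup A} (f : ↥M →* S)
    (hf : Function.Surjective f) (hk : ∀ k : ↥M, f k = 1 ↔ (k : A) ∈ P) (hP : P ≤ M) :
    Nat.card ↥M = Nat.card ↥P * Nat.card S := by
  have hker : f.ker = P.subgroupOf M := by
    ext k
    rw [MonoidHom.mem_ker, Subgroup.mem_subgroupOf]
    exact hk k
  rw [← f.ker.card_mul_index, Subgroup.index_ker, MonoidHom.range_eq_top.mpr hf, Subgroup.card_top,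
    hker, Nat.card_congr (Subgroup.subgroupOfEquivOfLe hP).toEquiv]

universe u

variable {X : Type u} [Group X] [Finite X] {G₀ : Subgroup X} {d : X}

omit [Finite X] in
/-- conjugating a member's centraliser to that of `t` -/
theorem perf_conj (hn : G₀.Normal) {k : X} (kd : Commute k d) {t : X}
    (h : ⁅cn G₀ [d, t], cn G₀ [d, t]⁆ = cn G₀ [d, t]) :
    ⁅cn G₀ [d, k * t * k⁻¹], cn G₀ [d, k * t * k⁻¹]⁆ = cn G₀ [d, k * t * k⁻¹] := by
  have e1 := cn_map hn k [d, t]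
  simp only [List.map_cons, List.map_nil, cj_apply] at e1
  rw [cj_eq_iff.mpr kd] at e1
  rw [← e1]
  exact perfect_map _ h

/-- the facts at `t` give the setting -/
theorem exists_setting (h02 : H33.AutLFi.CentralRecognition.{u}) (hidx : G₀.index = 2)
    (hd2 : orderOf d = 2) (hdG : d ∉ G₀) {t : ↥G₀} (ht2 : orderOf t = 2) (hdt : Commute d (t : X))
    {K : Subgroup ↥G₀} {f : ↥K →* Cfsg.Spor.Fi22} (hqK : Cfsg.IsQuasisimple ↥K)
    (hfs : Function.Surjective f) (hfk : ∀ k : ↥K, f k = 1 ↔ (k : ↥G₀) ∈ Subgroup.zpowers t)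
    (hK : ∀ a : ↥G₀, a ∈ K ↔ (a * t = t * a ∧ Commute d (a : X)))
    {g : ↥G₀} (hdg : Commute d (g : X)) (hgne : g * t * g⁻¹ ≠ t)
    (hgc : (g * t * g⁻¹) * t = t * (g * t * g⁻¹))
    {K₀ : Subgroup ↥(Subgroup.centralizer ({t} : Set ↥G₀))}
    [hnT : ((Subgroup.zpowers t).subgroupOf (Subgroup.centralizer ({t} : Set ↥G₀))).Normal]
    (hqK₀ : Cfsg.IsQuasisimple ↥K₀) (hK2 : K₀.index = 2)
    (htK₀ : ∃ htc : t ∈ Subgroup.centralizer ({t} : Set ↥G₀), (⟨t, htc⟩ : _) ∈ K₀)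
    (e : ↥(Subgroup.centralizer ({t} : Set ↥G₀)) ⧸
      (Subgroup.zpowers t).subgroupOf (Subgroup.centralizer ({t} : Set ↥G₀)) ≃*
      MulAut Cfsg.Spor.Fi22) :
    ∃ T : Set X, Setting G₀ d T ∧ Cfsg.IsThreeTranspositionClass (sub G₀ d T) ∧
      Cfsg.IsOfTypeM23 ↥(cn G₀ [d]) (sub G₀ d T) := by
  classical
  have hn : G₀.Normal := Subgroup.normal_of_index_eq_two hidx
  set Y := cn G₀ [d]
  have hmem : ∀ a : ↥G₀, Commute d (a : X) → (a : X) ∈ Y := fun a ha => mem_cn1.mpr ⟨a.2, ha.symm⟩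
  let t' : ↥Y := ⟨t, hmem t hdt⟩
  have ht' : orderOf t' = 2 := by
    rw [← Subgroup.orderOf_coe]; show orderOf (t : X) = 2; rw [Subgroup.orderOf_coe, ht2]
  -- the centraliser in the smaller group
  let toK : ↥(Subgroup.centralizer ({t'} : Set ↥Y)) →* ↥K := MonoidHom.mk'
    (fun a => ⟨⟨((a : ↥Y) : X), (mem_cn1.mp (a : ↥Y).2).1⟩, (hK _).2 ⟨Subtype.ext
      (congrArg (fun b : ↥Y => (b : X)) (Subgroup.mem_centralizer_singleton_iff.1 a.2)),
      (mem_cn1.mp (a : ↥Y).2).2.symm⟩⟩)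
    fun a b => rfl
  have hbij : Function.Bijective toK := by
    refine ⟨fun a b h => Subtype.ext (Subtype.ext (congrArg (fun k : ↥K => ((k : ↥G₀) : X)) h)),
      fun k => ?_⟩
    obtain ⟨hkt, hkd⟩ := (hK k).1 k.2
    exact ⟨⟨⟨((k : ↥G₀) : X), hmem _ hkd⟩, Subgroup.mem_centralizer_singleton_iff.2
      (Subtype.ext (congrArg (fun b : ↥G₀ => (b : X)) hkt))⟩, rfl⟩
  let σ : ↥(Subgroup.centralizer ({t'} : Set ↥Y)) ≃* ↥K := MulEquiv.ofBijective toK hbij
  haveI hnt := H33.AutLFi.zpowers_normal t'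
  let F : ↥(Subgroup.centralizer ({t'} : Set ↥Y)) →* Cfsg.Spor.Fi22 := f.comp σ.toMonoidHom
  have hker : F.ker = (Subgroup.zpowers t').subgroupOf (Subgroup.centralizer ({t'} : Set ↥Y)) := by
    ext a
    rw [MonoidHom.mem_ker, Subgroup.mem_subgroupOf]
    refine (hfk _).trans ?_
    constructor
    · intro h
      obtain ⟨n, hn⟩ := Subgroup.mem_zpowers_iff.1 h
      refine Subgroup.mem_zpowers_iff.2 ⟨n, Subtype.ext ?_⟩
      have := congrArg (fun b : ↥G₀ => (b : X)) hn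
      rw [Subgroup.coe_zpow] at this ⊢
      exact this
    · intro h
      obtain ⟨n, hn⟩ := Subgroup.mem_zpowers_iff.1 h
      refine Subgroup.mem_zpowers_iff.2 ⟨n, Subtype.ext ?_⟩
      have := congrArg (fun b : ↥Y => (b : X)) hn
      rw [Subgroup.coe_zpow] at this ⊢
      exact this
  obtain ⟨hE, hd'⟩ := H33.AutLFi.fi22_facts
    ((QuotientGroup.quotientMulEquivOfEq hker.symm).trans
      (QuotientGroup.quotientKerEquivOfSurjective F (hfs.comp σ.surjective))).symm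
  obtain ⟨hcls, h23⟩ := h02 t' ht' (Cfsg.Agent.H41.isQuasisimple_congr σ.symm hqK) hE hd'
    ⟨⟨g, hmem g hdg⟩, Subgroup.mem_centralizer_singleton_iff.2
      (Subtype.ext (congrArg (fun b : ↥G₀ => (b : X)) hgc)),
      fun h => hgne (Subtype.ext (congrArg (fun b : ↥Y => (b : X)) h))⟩
  set T : Set X := Subtype.val '' conjugatesOf t' with hT
  have hsub : sub G₀ d T = conjugatesOf t' := Set.preimage_image_eq _ Subtype.val_injective
  refine ⟨T, ?_, by rw [hsub]; exact hcls, by rw [hsub]; exact h23⟩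
  -- the centraliser of `t`
  obtain ⟨htc, htK⟩ := htK₀
  set P := (Subgroup.zpowers t).subgroupOf (Subgroup.centralizer ({t} : Set ↥G₀))
  have hPK : P ≤ K₀ := fun x hx => by
    obtain ⟨n, hn⟩ := Subgroup.mem_zpowers_iff.1 (Subgroup.mem_subgroupOf.1 hx)
    have : x = (⟨t, htc⟩ : ↥(Subgroup.centralizer ({t} : Set ↥G₀))) ^ n := Subtype.ext (by rw [Subgroup.coe_zpow]; exact hn.symm)
    exact this ▸ K₀.zpow_mem htK n
  haveI h22 : Finite Cfsg.Agent.H93.Exist.G22 := Cfsg.Agent.H45.Fi22Top.order_facts.1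
  haveI : Finite Cfsg.Spor.Fi22 := h22
  obtain ⟨f₀, hf₀s, hf₀k, -, hcent⟩ := H33.AutLFi.quot_facts (S := Cfsg.Spor.Fi22) hPK hK2
    Cfsg.Agent.H45.Fi22Top.isSimple
    Cfsg.Agent.H93.Exist.center22 Cfsg.Agent.H46.Fi22Out.out_card e
  have hKP : Subgroup.zpowers t ≤ K := Subgroup.zpowers_le.mpr ((hK t).2 ⟨rfl, hdt⟩)
  have hcK : Nat.card ↥K = Nat.card ↥(Subgroup.zpowers t) * Nat.card Cfsg.Spor.Fi22 :=
    card_of_map f hfs hfk hKP
  have hcK₀ : Nat.card ↥(K₀.map (Subgroup.centralizer ({t} : Set ↥G₀)).subtype) = Nat.card ↥(Subgroup.zpowers t) * Nat.card Cfsg.Spor.Fi22 := by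
    rw [Nat.card_congr (K₀.equivMapOfInjective _ (Subgroup.centralizer ({t} : Set ↥G₀)).subtype_injective).symm.toEquiv,
      card_of_map (S := Cfsg.Spor.Fi22) f₀ hf₀s hf₀k hPK,
      Nat.card_congr (Subgroup.subgroupOfEquivOfLe (Subgroup.zpowers_le.mpr htc)).toEquiv]
  have hKC : K ≤ (Subgroup.centralizer ({t} : Set ↥G₀)) := fun a ha => Subgroup.mem_centralizer_singleton_iff.2 ((hK a).1 ha).1
  have hKperf : ⁅K, K⁆ = K := Subgroup.isPerfect_iff.mp hqK.1
  have hKeq : K = K₀.map (Subgroup.centralizer ({t} : Set ↥G₀)).subtype := by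
    refine Subgroup.eq_of_le_of_card_ge ?_ (by rw [hcK, hcK₀])
    rw [H33.AutLFi.eq_commutator hqK₀.1 hK2, Subgroup.map_subtype_commutator, ← hKperf]
    exact Subgroup.commutator_mono hKC hKC
  have hmemK : ∀ a : ↥(Subgroup.centralizer ({t} : Set ↥G₀)), a ∈ K₀ ↔ Commute d ((a : ↥G₀) : X) := fun a => by
    refine Iff.trans (show a ∈ K₀ ↔ (a : ↥G₀) ∈ K from ?_) ⟨fun h => ((hK _).1 h).2,
      fun h => (hK _).2 ⟨Subgroup.mem_centralizer_singleton_iff.1 a.2, h⟩⟩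
    rw [hKeq]
    exact ⟨fun h => ⟨a, h, rfl⟩, fun ⟨b, hb, eb⟩ => Subtype.ext eb ▸ hb⟩
  have toC : ∀ {x : X} (hx : x ∈ G₀), Commute x (t : X) → (⟨x, hx⟩ : ↥G₀) ∈ (Subgroup.centralizer ({t} : Set ↥G₀)) := fun hx c =>
    Subgroup.mem_centralizer_singleton_iff.2 (Subtype.ext c.eq)
  -- the three facts at `t`
  have perf0 : ⁅cn G₀ [d, (t : X)], cn G₀ [d, (t : X)]⁆ = cn G₀ [d, (t : X)] := by
    have h : cn G₀ [d, (t : X)] = K.map G₀.subtype := by
      ext x
      constructor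
      · intro hx
        obtain ⟨xG, xd, xt⟩ := mem_cn2.mp hx
        exact ⟨⟨x, xG⟩, (hK _).2 ⟨Subtype.ext xt.eq, xd.symm⟩, rfl⟩
      · rintro ⟨a, ha, rfl⟩
        obtain ⟨at', ad⟩ := (hK a).1 ha
        exact mem_cn2.mpr ⟨a.2, ad.symm, congrArg Subtype.val at'⟩
    rw [h]
    exact perfect_map _ hKperf
  have moves0 : ∃ x ∈ G₀, Commute x (t : X) ∧ ¬ Commute x d := by
    obtain ⟨c, hc⟩ : ∃ c : ↥(Subgroup.centralizer ({t} : Set ↥G₀)), c ∉ K₀ := by
      by_contra hno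
      simp only [not_exists, not_not] at hno
      rw [show K₀ = ⊤ from eq_top_iff.mpr fun c _ => hno c, Subgroup.index_top] at hK2
      omega
    exact ⟨((c : ↥G₀) : X), (c : ↥G₀).2,
      congrArg (fun b : ↥G₀ => (b : X)) (Subgroup.mem_centralizer_singleton_iff.1 c.2),
      fun q => hc ((hmemK c).mpr q.symm)⟩
  have two0 : ∀ p ∈ G₀, ∀ q ∈ G₀, Commute p (t : X) → Commute q (t : X) → ¬ Commute p d →
      ¬ Commute q d → Commute (p * q) d := by
    intro p hp q hq pt qt pd qd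
    refine ((hmemK ((⟨⟨p, hp⟩, toC hp pt⟩ : ↥(Subgroup.centralizer ({t} : Set ↥G₀))) * ⟨⟨q, hq⟩, toC hq qt⟩)).mp ?_).symm
    exact (Subgroup.mul_mem_iff_of_index_two hK2).mpr
      (iff_of_false (fun h => pd ((hmemK _).mp h).symm) (fun h => qd ((hmemK _).mp h).symm))
  have selfc0 : ∀ u ∈ G₀, (∀ x ∈ cn G₀ [d, (t : X)], Commute u x) → u = 1 ∨ u = (t : X) := by
    intro u hu hall
    have ut : Commute u (t : X) := hall _ (mem_cn2.mpr ⟨t.2, hdt.symm, Commute.refl _⟩)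
    have h : (⟨⟨u, hu⟩, toC hu ut⟩ : ↥(Subgroup.centralizer ({t} : Set ↥G₀))) ∈ P := by
      refine hcent _ fun k hk => ?_
      have huk : Commute u ((k : ↥G₀) : X) := hall _ (mem_cn2.mpr ⟨(k : ↥G₀).2, ((hmemK k).mp hk).symm,
        congrArg (fun b : ↥G₀ => (b : X)) (Subgroup.mem_centralizer_singleton_iff.1 k.2)⟩)
      rw [show (⟨⟨u, hu⟩, toC hu ut⟩ : ↥(Subgroup.centralizer ({t} : Set ↥G₀))) * k * (⟨⟨u, hu⟩, toC hu ut⟩ : ↥(Subgroup.centralizer ({t} : Set ↥G₀)))⁻¹ * k⁻¹ = 1 from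
        mul_inv_eq_one.mpr (mul_inv_eq_iff_eq_mul.mpr (Subtype.ext (Subtype.ext huk.eq)))]
      exact one_mem _
    obtain ⟨n, hn⟩ := Subgroup.mem_zpowers_iff.1 (Subgroup.mem_subgroupOf.1 h)
    have ht22 : t ^ (2 : ℤ) = 1 := by
      have := pow_orderOf_eq_one t
      rw [ht2] at this
      exact_mod_cast this
    rcases Int.even_or_odd' n with ⟨m, rfl | rfl⟩
    · rw [zpow_mul, ht22, one_zpow] at hn
      exact Or.inl (congrArg Subtype.val hn).symm
    · rw [zpow_add, zpow_mul, ht22, one_zpow, one_mul, zpow_one] at hn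
      exact Or.inr (congrArg Subtype.val hn).symm
  -- moved to the other members
  have hrep : ∀ a ∈ T, ∃ k : X, k ∈ G₀ ∧ Commute k d ∧ k * (t : X) * k⁻¹ = a := by
    rintro _ ⟨a, ha, rfl⟩
    obtain ⟨k, hk⟩ := isConj_iff.mp (show IsConj t' a from ha)
    exact ⟨k, (mem_cn1.mp k.2).1, (mem_cn1.mp k.2).2, congrArg Subtype.val hk⟩
  have back : ∀ {k p : X}, Commute p (k * (t : X) * k⁻¹) → Commute (k⁻¹ * p * k) (t : X) := by
    intro k p h
    have := cj_comm k⁻¹ h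
    rwa [inv_inv, show k⁻¹ * (k * (t : X) * k⁻¹) * k = (t : X) by group] at this
  refine ⟨hidx, ?_, hdG, fun a ha => ?_, ?_, ?_, fun a ha => ?_, fun a ha => ?_,
    fun a ha p hp q hq pa qa pd qd => ?_, fun a ha u hu hall => ?_⟩
  · rw [← pow_two, ← hd2, pow_orderOf_eq_one]
  · obtain ⟨b, -, rfl⟩ := ha
    exact b.2
  · rw [hsub]; exact m23data hcls h23
  · rw [hsub]; exact geo23 hcls h23
  · obtain ⟨k, -, kd, rfl⟩ := hrep a ha
    exact perf_conj hn kd perf0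
  · obtain ⟨k, hk, kd, rfl⟩ := hrep a ha
    obtain ⟨x, hx, xt, xd⟩ := moves0
    refine ⟨k * x * k⁻¹, hn.conj_mem x hx k, cj_comm k xt, fun q => xd ?_⟩
    have := cj_comm k⁻¹ q
    rwa [inv_inv, show k⁻¹ * (k * x * k⁻¹) * k = x by group,
      show k⁻¹ * d * k = d by rw [mul_assoc, kd.symm.eq, inv_mul_cancel_left]] at this
  · obtain ⟨k, hk, kd, rfl⟩ := hrep a ha
    have hd' : ∀ {y : X}, Commute (k⁻¹ * y * k) d → Commute y d := fun {y} c => by
      have := cj_comm k c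
      rwa [show k * (k⁻¹ * y * k) * k⁻¹ = y by group, cj_eq_iff.mpr kd] at this
    have hm : ∀ {y : X}, y ∈ G₀ → k⁻¹ * y * k ∈ G₀ := fun {y} hy => by
      simpa using hn.conj_mem y hy k⁻¹
    refine hd' ?_
    rw [show k⁻¹ * (p * q) * k = (k⁻¹ * p * k) * (k⁻¹ * q * k) by group]
    refine two0 _ (hm hp) _ (hm hq) (back pa) (back qa) (fun c => pd (hd' c)) fun c => qd (hd' c)
  · obtain ⟨k, hk, kd, rfl⟩ := hrep a ha
    rcases selfc0 (k⁻¹ * u * k) (by simpa using hn.conj_mem u hu k⁻¹) (fun x hx => by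
      obtain ⟨xG, xd, xt⟩ := mem_cn2.mp hx
      have h1 : Commute (k * x * k⁻¹) d := by
        have := cj_comm k xd
        rwa [cj_eq_iff.mpr kd] at this
      have := cj_comm k⁻¹ (hall (k * x * k⁻¹) (mem_cn2.mpr ⟨hn.conj_mem x xG k, h1, cj_comm k xt⟩))
      rwa [inv_inv, show k⁻¹ * (k * x * k⁻¹) * k = x by group] at this) with q | q
    · left
      rw [show u = k * (k⁻¹ * u * k) * k⁻¹ by group, q, mul_one, mul_inv_cancel]
    · right
      rw [← q]
      group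

end Cfsg.Agent.H41.AutFi
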