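import Cfsg.Agent.H41.AutFi.Top
import Cfsg.Agent.H41.AutFi.From
import Cfsg.Agent.H93.Exist.Fi23Class
import Cfsg.Agent.H93.Unique23

/-!
A group with a subgroup of index two of large Fischer type is isomorphic to the model of type M(24), given
the centralisers of the inner involutions and the recognition of type M(23).
-/

set_option autoImplicit false
set_option maxRecDepth 20000

namespace Cfsg.Agent.H41.AutFi

open Cfsg.Agent.H93
open Cfsg.Agent.H93.Exist (G23 D23)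
open Cfsg.Agent.H25.Fi23 hiding zWord

universe u

theorem d23_eq :
    D23 = {y | IsConj (PresentedGroup.of Cfsg.Spor.Fi23.Gen.a : Cfsg.Spor.Fi23) y} := by
  obtain ⟨c, hc, e⟩ := Exist.class23.2.1
  have h1 : IsConj c (Exist.gen .a) := (e ▸ Exist.gen_mem .a :)
  refine Set.ext fun y => ⟨fun hy => h1.symm.trans (e ▸ hy :), fun hy => ?_⟩
  rw [e]
  exact h1.trans hy

theorem exists_iso (h50 : H33.AutLFi.InnerCentralizer.{u}) (h02 : H33.AutLFi.CentralRecognition.{u})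
    {G : Type} [Group G] [Finite G] {E : Set G} {l : G} {ψ : G23 →* G} (M : Model D23 E l ψ)
    {X : Type u} [Group X] [Finite X] (G₀ : Subgroup X) (hidx : G₀.index = 2) (z : ↥G₀)
    (Q : Subgroup (Subgroup.centralizer ({z} : Set ↥G₀))) [Q.Normal]
    (hF : Cfsg.IsOfLargeFischerTypeAt z Q)
    (hcentral : ∃ P : Sylow 2 ↥G₀, z ∈ (P : Subgroup ↥G₀) ∧ ∀ x ∈ (P : Subgroup ↥G₀), Commute x z)
    (hFX : (Cfsg.generalizedFittingSubgroup ↥(Subgroup.centralizer ({(z : X)} : Set X))).map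
      (Subgroup.subtype _) = ((Q.map (Subgroup.subtype _)).map G₀.subtype)) :
    ∃ ε : G ≃* X, ε l ∉ G₀ ∧ orderOf (ε l) = 2 ∧ Commute (ε l) (z : X) := by
  classical
  have hC : ∀ t : ↥G₀, t ∈ Q.map (Subgroup.centralizer ({z} : Set ↥G₀)).subtype → orderOf t = 2 →
      ¬ IsConj z t → ∃ (K : Subgroup ↥(Subgroup.centralizer ({t} : Set ↥G₀)))
        (_ : ((Subgroup.zpowers t).subgroupOf (Subgroup.centralizer ({t} : Set ↥G₀))).Normal),
        Cfsg.IsQuasisimple ↥K ∧ K.index = 2 ∧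
        (∃ htc : t ∈ Subgroup.centralizer ({t} : Set ↥G₀), (⟨t, htc⟩ : _) ∈ K) ∧
        Nonempty (↥(Subgroup.centralizer ({t} : Set ↥G₀)) ⧸
          (Subgroup.zpowers t).subgroupOf (Subgroup.centralizer ({t} : Set ↥G₀)) ≃*
          MulAut Cfsg.Spor.Fi22) := by
    intro t ht ht2 hnc
    obtain ⟨q, hq, rfl⟩ := Subgroup.mem_map.1 ht
    haveI hn := H33.AutLFi.zpowers_normal (q : ↥G₀)
    exact ⟨_, hn, h50 z Q hF (q : ↥G₀) ⟨q.2, hq⟩ ht2 hnc _ rfl⟩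
  obtain ⟨d, t, K, f, hd2, hdG, hdz, ht2, hdt, hqK, hfs, hfk, hK, htQ, htz, g, hdg, hgne, hgc⟩ :=
    H33.AutLFi.outer_main G₀ hidx z Q hF hcentral hFX hC
  obtain ⟨K₀, hnT, hqK₀, hK2, htK₀, ⟨e⟩⟩ := hC t htQ ht2 htz
  haveI := hnT
  obtain ⟨T, S, hcls, h23⟩ :=
    exists_setting h02 hidx hd2 hdG ht2 hdt hqK hfs hfk hK hdg hgne hgc hqK₀ hK2 htK₀ e
  obtain ⟨e23, he23⟩ := Unique23.equiv_fi23 hcls h23
  obtain ⟨ε, hε⟩ := M.exists_iso S e23 (by rw [d23_eq]; exact he23)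
  exact ⟨ε, hε ▸ hdG, hε ▸ hd2, hε ▸ hdz⟩

end Cfsg.Agent.H41.AutFi
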