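import Mathlib.GroupTheory.SpecificGroups.Alternating
import Mathlib.GroupTheory.Commutator.Basic
import Mathlib.GroupTheory.Index

/-!
Joint centralisers inside a subgroup, and perfect subgroups permuting two or three elements.
-/

set_option autoImplicit false

namespace Cfsg.Agent.H41.AutFi

open scoped commutatorElement

variable {X : Type*} [Group X]

/-- conjugation by `g` -/
abbrev cj (g : X) : X →* X := (MulAut.conj g).toMonoidHom

theorem cj_apply (g x : X) : cj g x = g * x * g⁻¹ := rfl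

theorem cj_comm (g : X) {x y : X} (h : Commute x y) :
    Commute (g * x * g⁻¹) (g * y * g⁻¹) := h.map (cj g)

theorem cj_eq_iff {g x : X} : g * x * g⁻¹ = x ↔ Commute g x := mul_inv_eq_iff_eq_mul

theorem cj_inj {g x y : X} (h : g * x * g⁻¹ = g * y * g⁻¹) : x = y :=
  mul_left_cancel (mul_right_cancel h)

/-- the elements of `G₀` centralising all of `s` -/
def cn (G₀ : Subgroup X) (s : List X) : Subgroup X :=
  G₀ ⊓ Subgroup.centralizer {x | x ∈ s}

variable {G₀ : Subgroup X}

theorem mem_cn {s : List X} {x : X} : x ∈ cn G₀ s ↔ x ∈ G₀ ∧ ∀ y ∈ s, Commute x y := by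
  rw [cn, Subgroup.mem_inf, Subgroup.mem_centralizer_iff]
  exact and_congr_right fun _ =>
    ⟨fun h y hy => (h y hy).symm, fun h y hy => (h y hy).symm⟩

theorem mem_cn1 {a x : X} : x ∈ cn G₀ [a] ↔ x ∈ G₀ ∧ Commute x a := by simp [mem_cn]

theorem mem_cn2 {a b x : X} : x ∈ cn G₀ [a, b] ↔ x ∈ G₀ ∧ Commute x a ∧ Commute x b := by
  simp [mem_cn]

theorem mem_cn3 {a b c x : X} :
    x ∈ cn G₀ [a, b, c] ↔ x ∈ G₀ ∧ Commute x a ∧ Commute x b ∧ Commute x c := by simp [mem_cn]

theorem cn_map (hn : G₀.Normal) (g : X) (s : List X) :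
    (cn G₀ s).map (cj g) = cn G₀ (s.map (cj g)) := by
  ext y
  rw [Subgroup.mem_map, mem_cn]
  constructor
  · rintro ⟨x, hx, rfl⟩
    rw [mem_cn] at hx
    refine ⟨hn.conj_mem x hx.1 g, fun z hz => ?_⟩
    obtain ⟨w, hw, rfl⟩ := List.mem_map.mp hz
    exact (hx.2 w hw).map (cj g)
  · rintro ⟨hy, hc⟩
    refine ⟨g⁻¹ * y * g, mem_cn.mpr ⟨?_, fun z hz => ?_⟩, by rw [cj_apply]; group⟩
    · simpa using hn.conj_mem y hy g⁻¹
    · have h := (hc _ (List.mem_map_of_mem (f := cj g) hz)).map (cj g⁻¹)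
      simpa [cj_apply, mul_assoc] using h

theorem perfect_map {H : Type*} [Group H] (f : H →* X) {S : Subgroup H} (h : ⁅S, S⁆ = S) :
    ⁅S.map f, S.map f⁆ = S.map f := by
  rw [← Subgroup.map_commutator, h]

/-- a subgroup with commutator subgroup itself lies in a part of index at most two -/
theorem perfect_le {P H K : Subgroup X} (hP : ⁅P, P⁆ = P) (hle : P ≤ H)
    (h2 : ∀ g ∈ H, ∀ h ∈ H, g ∉ K → h ∉ K → g * h ∈ K) : P ≤ K := by
  have inv : ∀ {g}, g ∈ H → g ∉ K → g⁻¹ ∈ H ∧ g⁻¹ ∉ K := fun hg hn =>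
    ⟨inv_mem hg, fun q => hn (by simpa using inv_mem q)⟩
  rw [← hP, Subgroup.commutator_le]
  intro a ha b hb
  have haH := hle ha
  have hbH := hle hb
  rw [commutatorElement_def]
  by_cases ca : a ∈ K
  · by_cases cb : b ∈ K
    · exact mul_mem (mul_mem (mul_mem ca cb) (inv_mem ca)) (inv_mem cb)
    · have hm : b * a⁻¹ ∉ K := fun q => cb (by simpa using mul_mem q ca)
      have e := h2 _ (mul_mem hbH (inv_mem haH)) _ (inv_mem hbH) hm (inv hbH cb).2
      rw [show a * b * a⁻¹ * b⁻¹ = a * (b * a⁻¹ * b⁻¹) by group]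
      exact mul_mem ca e
  · by_cases cb : b ∈ K
    · have hm : a * b ∉ K := fun q => ca (by simpa using mul_mem q (inv_mem cb))
      exact mul_mem (h2 _ (mul_mem haH hbH) _ (inv_mem haH) hm (inv haH ca).2) (inv_mem cb)
    · rw [mul_assoc (a * b)]
      exact mul_mem (h2 a haH b hbH ca cb)
        (h2 _ (inv_mem haH) _ (inv_mem hbH) (inv haH ca).2 (inv hbH cb).2)

theorem alt_comm : ∀ a ∈ alternatingGroup (Fin 3), ∀ b ∈ alternatingGroup (Fin 3), a * b = b * a := by
  simp only [Equiv.Perm.mem_alternatingGroup]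
  decide

/-- a subgroup with commutator subgroup itself centralises a triple it permutes -/
theorem perfect_fix {P : Subgroup X} (hP : ⁅P, P⁆ = P) (f : Fin 3 → X)
    (hf : Function.Injective f) (hperm : ∀ p ∈ P, ∀ i, ∃ j, p * f i * p⁻¹ = f j) :
    ∀ p ∈ P, ∀ i, Commute p (f i) := by
  classical
  choose! j hj using hperm
  have hbij : ∀ p ∈ P, Function.Bijective (j p) := fun p hp =>
    Finite.injective_iff_bijective.mp fun a b e => hf (cj_inj (g := p) (by rw [hj p hp, hj p hp, e]))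
  let φ : ↥P →* Equiv.Perm (Fin 3) :=
    { toFun := fun p => Equiv.ofBijective (j p) (hbij p p.2)
      map_one' := Equiv.ext fun i => hf (by
        show f (j (1 : X) i) = f i
        rw [← hj _ (one_mem P)]; simp)
      map_mul' := fun p q => Equiv.ext fun i => hf (by
        show f (j ((p * q : ↥P) : X) i) = f (j p (j q i))
        rw [← hj _ (p * q).2, ← hj _ p.2, ← hj _ q.2, Subgroup.coe_mul]; group) }
  have hR : ⁅φ.range, φ.range⁆ = φ.range := by
    have h1 : ⁅(⊤ : Subgroup ↥P), (⊤ : Subgroup ↥P)⁆ = (⊤ : Subgroup ↥P) := by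
      apply Subgroup.map_injective P.subtype_injective
      rw [Subgroup.map_commutator, ← MonoidHom.range_eq_map, Subgroup.range_subtype, hP]
    rw [MonoidHom.range_eq_map, ← Subgroup.map_commutator, h1]
  have hA : φ.range ≤ alternatingGroup (Fin 3) := by
    rw [← hR, Subgroup.commutator_le]
    intro a _ b _
    rw [Equiv.Perm.mem_alternatingGroup, map_commutatorElement, commutatorElement_def,
      mul_comm (Equiv.Perm.sign a) (Equiv.Perm.sign b), mul_assoc (Equiv.Perm.sign b),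
      mul_inv_cancel, mul_one, mul_inv_cancel]
  have hbot : ∀ p : ↥P, φ p = 1 := by
    intro p
    have h1 : φ.range ≤ ⊥ := by
      conv_lhs => rw [← hR]
      refine (Subgroup.commutator_mono hA hA).trans (Subgroup.commutator_le.mpr fun a ha b hb => ?_)
      rw [Subgroup.mem_bot, commutatorElement_eq_one_iff_mul_comm]
      exact alt_comm a ha b hb
    exact Subgroup.mem_bot.mp (h1 ⟨p, rfl⟩)
  intro p hp i
  have h1 : j p i = i := congrArg (fun σ : Equiv.Perm (Fin 3) => σ i) (hbot ⟨p, hp⟩)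
  exact cj_eq_iff.mp (by rw [hj p hp, h1])

end Cfsg.Agent.H41.AutFi
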