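import Cfsg.Agent.H41.AutFi.Start

/-!
The map of the class of the model extends to a group monomorphism whose image of the class is closed under
commuting inside the class of `d`.
-/

set_option autoImplicit false

namespace Cfsg.Agent.H41.AutFi

open Cfsg.Agent.H93
open Cfsg.Agent.H61.Glue (TI closed_nb commute_iff_conj)

/-- what is used about the monomorphism -/
structure Img {G : Type*} [Group G] (E : Set G) (l : G) {X : Type*} [Group X] (d : X)
    (η : G →* X) : Prop where
  inj : Function.Injective η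
  base : η l = d
  nbs : ∀ z ∈ E, ∀ w ∈ conjugatesOf d, Commute w (η z) → ∃ z' ∈ E, η z' = w

variable {H : Type*} [Group H] {DH : Set H} {G : Type*} [Group G] [Finite G] {E : Set G} {l : G}
  {ψ : H →* G} {X : Type*} [Group X] [Finite X] {G₀ : Subgroup X} {d : X} {T : Set X}

/-- the monomorphism -/
theorem Model.exists_img (M : Model DH E l ψ) (S : Setting G₀ d T) (e : H ≃* ↥(cn G₀ [d]))
    (he : e '' DH = sub G₀ d T) : ∃ η : G →* X, Img E l d η := by
  classical
  obtain ⟨f, fmem, finj, feq, fti, fl⟩ := M.exists_map S e he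
  have htt := M.geo.data.core.tt
  set Ω := f '' E with hΩ
  have sq : ∀ {a}, a ∈ Ω → a * a = 1 := by
    rintro _ ⟨z, hz, rfl⟩
    exact S.inv.sq _ (fmem hz)
  have near : ∀ z ∈ E, ∀ w ∈ conjugatesOf d, Commute w (f z) → ∃ z' ∈ E, f z' = w := by
    intro z hz w hw c
    by_cases q : w = f z
    · exact ⟨z, hz, q.symm⟩
    obtain ⟨z', hz', ez⟩ := (fti z hz).1.surjOn (show w ∈ nb (conjugatesOf d) (f z) from
      ⟨hw, q, c.symm⟩)
    exact ⟨z', hz'.1, ez⟩
  set I := Subgroup.closure Ω with hI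
  have stab : ∀ g ∈ I, ∀ w ∈ Ω, g * w * g⁻¹ ∈ Ω := by
    intro g hg
    induction hg using Subgroup.closure_induction'' with
    | one => intro w hw; simpa using hw
    | mem x hx =>
      rintro _ ⟨q, hq, rfl⟩
      obtain ⟨p, hp, rfl⟩ := hx
      rw [inv_eq_of_mul_eq_one_left (sq ⟨p, hp, rfl⟩), ← feq p hp q hq]
      exact ⟨_, htt.conj_self_mem hp hq, rfl⟩
    | inv_mem x hx =>
      rintro _ ⟨q, hq, rfl⟩
      obtain ⟨p, hp, rfl⟩ := hx
      rw [inv_inv, inv_eq_of_mul_eq_one_left (sq ⟨p, hp, rfl⟩), ← feq p hp q hq]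
      exact ⟨_, htt.conj_self_mem hp hq, rfl⟩
    | mul x y _ _ ix iy =>
      intro w hw
      rw [show x * y * w * (x * y)⁻¹ = x * (y * w * y⁻¹) * x⁻¹ by group]
      exact ix _ (iy w hw)
  set D' : Set ↥I := ((↑) : ↥I → X) ⁻¹' Ω with hD'def
  have hgen' : Subgroup.closure D' = ⊤ := Subgroup.closure_closure_coe_preimage
  have hD' : TT D' := by
    refine ⟨fun a ha => Subtype.ext (sq ha), fun a ha b hb => ?_, fun g a ha => stab g g.2 a ha⟩
    by_cases c : Commute a b
    · left
      rw [c.mul_pow, pow_two, pow_two, show a * a = 1 from Subtype.ext (sq ha),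
        show b * b = 1 from Subtype.ext (sq hb), one_mul]
    right
    obtain ⟨p, hp, ep⟩ := ha
    obtain ⟨q, hq, eq⟩ := hb
    have hn : ¬ Commute p q := by
      intro cq
      refine c (Subtype.ext ?_)
      rw [Subgroup.coe_mul, Subgroup.coe_mul, ← ep, ← eq]
      refine ((commute_iff_conj (sq ⟨p, hp, rfl⟩)).mpr ?_).eq
      rw [← feq p hp q hq, (commute_iff_conj (htt.sq p hp)).mp cq]
    have hb' : f p * f q * f p = f q * f p * f q := by
      rw [← feq p hp q hq, ← feq q hq p hp, htt.braid hp hq hn]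
    refine Subtype.ext ?_
    rw [SubgroupClass.coe_pow, Subgroup.coe_mul, ← ep, ← eq, Subgroup.coe_one]
    calc (f p * f q) ^ 3 = f p * f q * f p * (f q * f p * f q) := by
          simp only [pow_succ, pow_zero, one_mul, mul_assoc]
      _ = f p * f q * f p * (f p * f q * f p) := by rw [hb']
      _ = f p * (f q * (f p * f p) * f q) * f p := by simp only [mul_assoc]
      _ = 1 := by rw [sq ⟨p, hp, rfl⟩, mul_one, sq ⟨q, hq, rfl⟩, mul_one, sq ⟨p, hp, rfl⟩]
  have dI : d ∈ Ω := ⟨l, M.hl, fl⟩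
  have hcen' : Subgroup.center ↥I = ⊥ := by
    rw [eq_bot_iff]
    intro c hc
    rw [Subgroup.mem_center_iff] at hc
    have hcc : ∀ {w : X}, w ∈ Ω → Commute (c : X) w := fun {w} hw =>
      (congrArg Subtype.val (hc ⟨w, Subgroup.subset_closure hw⟩)).symm
    have key : ∀ {y : X}, y ∈ G₀ → (∀ w ∈ Ω, Commute y w) → y = 1 := by
      intro y hy hall
      have hyY : y ∈ cn G₀ [d] := mem_cn1.mpr ⟨hy, hall d dI⟩
      refine congrArg Subtype.val (S.geo.cen ⟨y, hyY⟩ fun t ht => Subtype.ext ?_)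
      have hm : d * (t : X) ∈ Ω := by
        obtain ⟨z', hz', ez⟩ := near l M.hl _ (S.member_class ht)
          (fl.symm ▸ (S.member_nb ht).2.2.symm)
        exact ⟨z', hz', ez⟩
      have h2 : Commute y (d * (d * (t : X))) := (hall d dI).mul_right (hall _ hm)
      rwa [← mul_assoc, S.sq, one_mul] at h2
    rw [Subgroup.mem_bot]
    refine Subtype.ext ?_
    by_cases hG : (c : X) ∈ G₀
    · exact key hG fun w hw => hcc hw
    exfalso
    have h1 : (c : X) * d ∈ G₀ := S.mul_mem_iff.mpr
      ⟨fun q => absurd q hG, fun q => absurd q S.out⟩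
    obtain ⟨z, hz, hn⟩ : ∃ z ∈ E, ¬ Commute l z := by
      by_contra hno
      simp only [not_exists, not_and, not_not] at hno
      refine M.geo.data.core.ne_one l M.hl ?_
      rw [← Subgroup.mem_bot, ← M.geo.data.cen, Subgroup.mem_center_iff]
      intro g
      have hle : Subgroup.closure E ≤ Subgroup.centralizer ({l} : Set G) := by
        rw [Subgroup.closure_le]
        exact fun z hz => Subgroup.mem_centralizer_singleton_iff.mpr (hno z hz).symm.eq
      exact Subgroup.mem_centralizer_singleton_iff.mp (hle (M.geo.data.gen ▸ Subgroup.mem_top g))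
    have hd' : ∀ w ∈ Ω, Commute d w := by
      intro w hw
      -- `c * d` centralises the members next to `d`, so it is trivial
      have h2 : (c : X) * d = 1 := by
        have hY : (c : X) * d ∈ cn G₀ [d] := mem_cn1.mpr ⟨h1, (hcc dI).mul_left (Commute.refl d)⟩
        refine congrArg Subtype.val (S.geo.cen ⟨_, hY⟩ fun t ht => Subtype.ext ?_)
        obtain ⟨z', hz', ez⟩ := near l M.hl _ (S.member_class ht)
          (fl.symm ▸ (S.member_nb ht).2.2.symm)
        have hct : Commute (c : X) (t : X) := by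
          have h3 := (hcc dI).mul_right (hcc ⟨z', hz', ez⟩)
          rwa [← mul_assoc, S.sq, one_mul] at h3
        exact (hct.mul_left (mem_cn1.mp t.2).2.symm).eq
      have hcd : (c : X) = d := by
        rw [eq_inv_of_mul_eq_one_left h2, inv_eq_of_mul_eq_one_left S.sq]
      exact hcd ▸ hcc hw
    apply hn
    rw [commute_iff_conj (htt.sq l M.hl)]
    refine finj (htt.conj_self_mem M.hl hz) hz ?_
    rw [feq l M.hl z hz, fl, ← commute_iff_conj S.sq]
    exact hd' _ ⟨z, hz, rfl⟩
  let F : G → ↥I := fun g => if h : f g ∈ I then ⟨f g, h⟩ else 1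
  have hF : ∀ {z}, z ∈ E → ((F z : ↥I) : X) = f z := fun {z} hz => by
    simp only [F, dif_pos (show f z ∈ I from Subgroup.subset_closure ⟨z, hz, rfl⟩)]
  have hFti : TI F E D' := by
    refine ⟨⟨fun z hz => ⟨z, hz, (hF hz).symm⟩, fun p hp q hq e => ?_, fun w hw => ?_⟩,
      fun p hp q hq => Subtype.ext ?_⟩
    · exact finj hp hq (by rw [← hF hp, e, hF hq])
    · obtain ⟨z, hz, ez⟩ := hw
      exact ⟨z, hz, Subtype.ext ((hF hz).trans ez)⟩
    · rw [Subgroup.coe_mul, Subgroup.coe_mul, hF (htt.conj_self_mem hp hq), hF hp, hF hq, feq p hp q hq]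
  obtain ⟨ε, hε, -⟩ := hFti.exists_equiv htt hD' M.geo.data.gen hgen' M.geo.data.cen hcen'
  have hη : ∀ z ∈ E, (I.subtype.comp ε.toMonoidHom) z = f z := fun z hz => by
    show ((ε z : ↥I) : X) = f z
    rw [hε z hz, hF hz]
  refine ⟨I.subtype.comp ε.toMonoidHom, Subtype.val_injective.comp ε.injective,
    (hη l M.hl).trans fl, fun z hz w hw c => ?_⟩
  obtain ⟨z', hz', ez⟩ := near z hz w hw (hη z hz ▸ c)
  exact ⟨z', hz', (hη z' hz').trans ez⟩

end Cfsg.Agent.H41.AutFi
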