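import Cfsg.Agent.H41.AutFi.Conj

/-!
The conjugates of `d` commuting with it are the products with members, and a conjugate commuting with the
product of two commuting conjugates commutes with both.
-/

set_option autoImplicit false

namespace Cfsg.Agent.H41.AutFi

open Cfsg.Agent.H93
open scoped commutatorElement

variable {X : Type*} [Group X] {G₀ : Subgroup X} {d e : X} {T T' : Set X}

theorem shift2 {u : X} (he : e = d * u) (hd : d * d = 1) : cn G₀ [e, u] = cn G₀ [d, u] := by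
  have hd' : d = e * u⁻¹ := by rw [he, mul_inv_cancel_right]
  ext x
  rw [mem_cn2, mem_cn2]
  exact and_congr_right fun _ => ⟨fun h => ⟨hd' ▸ h.1.mul_right h.2.inv_right, h.2⟩,
    fun h => ⟨he ▸ h.1.mul_right h.2, h.2⟩⟩

/-- the images of `d` under two elements of the centraliser of a member which both move it -/
theorem Frame.move_mul (F : Frame G₀ d T) {a g h : X} (ha : a ∈ T) (hga : Commute g a)
    (hha : Commute h a) (hg : ¬ Commute g d) (hh : ¬ Commute h d) : Commute (g * h) d := by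
  have e1 := (F.cases a ha g hga).resolve_left fun q => hg (cj_eq_iff.mp q)
  have e2 := (F.cases a ha h hha).resolve_left fun q => hh (cj_eq_iff.mp q)
  refine cj_eq_iff.mp ?_
  rw [show g * h * d * (g * h)⁻¹ = g * (h * d * h⁻¹) * g⁻¹ by group, e2,
    show g * (d * a) * g⁻¹ = g * d * g⁻¹ * (g * a * g⁻¹) by group, e1, cj_eq_iff.mpr hga, mul_assoc,
    F.sq a ha, mul_one]

/-- no conjugate is the product of `d` with two members -/
theorem pair_not (F : Frame G₀ d T) (F' : Frame G₀ e T') {a b : X} (ha : a ∈ T) (hb : b ∈ T)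
    (hne : a ≠ b) (hab : Commute a b) (he : e = d * (a * b)) : False := by
  obtain ⟨aG, ad⟩ := F.nmem ha
  obtain ⟨bG, bd⟩ := F.nmem hb
  set u := a * b with hu
  have hH : cn G₀ [e, u] = cn G₀ [d, u] := shift2 he F.sq_d
  have hP := F.perf2 a ha b hb hne hab
  have hPH : cn G₀ [d, a, b] ≤ cn G₀ [d, u] := fun x hx => by
    obtain ⟨xG, xd, xa, xb⟩ := mem_cn3.mp hx
    exact mem_cn2.mpr ⟨xG, xd, xa.mul_right xb⟩
  have htwo : ∀ g ∈ cn G₀ [d, u], ∀ h ∈ cn G₀ [d, u], g ∉ cn G₀ [d, a, b] → h ∉ cn G₀ [d, a, b] →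
      g * h ∈ cn G₀ [d, a, b] := by
    intro g hg h hh ng nh
    obtain ⟨gG, gd, gu⟩ := mem_cn2.mp hg
    obtain ⟨hG, hdd, hu'⟩ := mem_cn2.mp hh
    have out : ∀ {x}, x ∈ G₀ → Commute x d → Commute x u → x ∉ cn G₀ [d, a, b] →
        x * a * x⁻¹ = b ∧ x * b * x⁻¹ = a := fun {x} xG xd xu nx =>
      (F.perm2 a ha b hb hne hab x (mem_cn1.mpr ⟨xG, xd⟩) xu).resolve_left fun q =>
        nx (mem_cn3.mpr ⟨xG, xd, cj_eq_iff.mp q.1, cj_eq_iff.mp q.2⟩)
    obtain ⟨g1, g2⟩ := out gG gd gu ng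
    obtain ⟨h1, h2⟩ := out hG hdd hu' nh
    refine mem_cn3.mpr ⟨mul_mem gG hG, gd.mul_left hdd, cj_eq_iff.mp ?_, cj_eq_iff.mp ?_⟩
    · rw [show g * h * a * (g * h)⁻¹ = g * (h * a * h⁻¹) * g⁻¹ by group, h1, g2]
    · rw [show g * h * b * (g * h)⁻¹ = g * (h * b * h⁻¹) * g⁻¹ by group, h2, g1]
  have uu : u * u = 1 := by
    rw [hu, show a * b * (a * b) = a * (b * a) * b by group, ← hab.eq,
      show a * (a * b) * b = a * a * (b * b) by group, F.sq a ha, F.sq b hb, one_mul]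
  have u1 : u ≠ 1 := fun q => hne (by
    rw [eq_inv_of_mul_eq_one_left q, inv_eq_of_mul_eq_one_left (F.sq b hb)])
  have ue : u ∈ cn G₀ [e] :=
    mem_cn1.mpr ⟨mul_mem aG bG, he ▸ (ad.mul_left bd).mul_right (Commute.refl _)⟩
  rcases F'.classify u ue uu u1 with h | ⟨a', b', ha', hb', n', c', hu'⟩ | ⟨a', b', c', h, hu'⟩
  · have hp := F'.perf1 u h
    rw [hH] at hp
    have hle : cn G₀ [d, u] ≤ cn G₀ [d, a, b] := perfect_le hp le_rfl htwo
    obtain ⟨k, hk, k1, k2⟩ := F.swap2 a ha b hb hne hab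
    obtain ⟨kG, kd⟩ := mem_cn1.mp hk
    have ku : Commute k u := cj_eq_iff.mp (by
      rw [hu, show k * (a * b) * k⁻¹ = k * a * k⁻¹ * (k * b * k⁻¹) by group, k1, k2, hab.eq])
    obtain ⟨-, -, ka, -⟩ := mem_cn3.mp (hle (mem_cn2.mpr ⟨kG, kd, ku⟩))
    exact hne ((cj_eq_iff.mpr ka).symm.trans k1)
  · have hP2 := F'.perf2 a' ha' b' hb' n' c'
    have hle2 : cn G₀ [e, a', b'] ≤ cn G₀ [d, u] := fun x hx => by
      obtain ⟨xG, xe, xa, xb⟩ := mem_cn3.mp hx
      rw [← hH]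
      exact mem_cn2.mpr ⟨xG, xe, hu' ▸ xa.mul_right xb⟩
    have le1 : cn G₀ [e, a', b'] ≤ cn G₀ [d, a, b] := perfect_le hP2 hle2 htwo
    have le2 : cn G₀ [d, a, b] ≤ cn G₀ [e, a', b'] := by
      refine perfect_le hP (hH.symm ▸ hPH) fun g hg h hh ng nh => ?_
      obtain ⟨gG, ge, gu⟩ := mem_cn2.mp hg
      obtain ⟨hG, hge, hu''⟩ := mem_cn2.mp hh
      have out : ∀ {x}, x ∈ G₀ → Commute x e → Commute x u → x ∉ cn G₀ [e, a', b'] →
          x * a' * x⁻¹ = b' ∧ x * b' * x⁻¹ = a' := fun {x} xG xd xu nx =>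
        (F'.perm2 a' ha' b' hb' n' c' x (mem_cn1.mpr ⟨xG, xd⟩) (hu' ▸ xu)).resolve_left fun q =>
          nx (mem_cn3.mpr ⟨xG, xd, cj_eq_iff.mp q.1, cj_eq_iff.mp q.2⟩)
      obtain ⟨g1, g2⟩ := out gG ge gu ng
      obtain ⟨h1, h2⟩ := out hG hge hu'' nh
      refine mem_cn3.mpr ⟨mul_mem gG hG, ge.mul_left hge, cj_eq_iff.mp ?_, cj_eq_iff.mp ?_⟩
      · rw [show g * h * a' * (g * h)⁻¹ = g * (h * a' * h⁻¹) * g⁻¹ by group, h1, g2]
      · rw [show g * h * b' * (g * h)⁻¹ = g * (h * b' * h⁻¹) * g⁻¹ by group, h2, g1]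
    have haP : a ∈ cn G₀ [d, a, b] := mem_cn3.mpr ⟨aG, ad, Commute.refl a, hab⟩
    -- both are members at the other end
    have key : a ∈ T' ∧ b ∈ T' := by
      rcases F'.kernel a' ha' b' hb' n' c' a (le2 haP)
          (fun x hx => (mem_cn3.mp (le1 hx)).2.2.1.symm) with q | q | q | q
      · exact absurd q (F.ne1 a ha)
      · rw [← q] at hu' ha'
        exact ⟨ha', mul_left_cancel (hu.symm.trans hu') ▸ hb'⟩
      · rw [← q] at hu' hb' c'
        exact ⟨hb', mul_left_cancel (hu.symm.trans (hu'.trans c'.eq)) ▸ ha'⟩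
      · rw [← hu', hu] at q
        exact absurd (mul_eq_left.mp q.symm) (F.ne1 b hb)
    obtain ⟨k, hk, hkb⟩ := F'.moves1 a key.1 b key.2 hne hab
    have hle3 : cn G₀ [e, a] ≤ cn G₀ [d, a, b] := by
      refine perfect_le (F'.perf1 a key.1) le_rfl fun g hg h hh ng nh => ?_
      obtain ⟨gG, ge, ga⟩ := mem_cn2.mp hg
      obtain ⟨hG, hge, ha''⟩ := mem_cn2.mp hh
      have fix : ∀ {x}, x ∈ G₀ → Commute x e → Commute x a → Commute x d → x ∈ cn G₀ [d, a, b] := by
        intro x xG xe xa xd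
        refine mem_cn3.mpr ⟨xG, xd, xa, ?_⟩
        have h1 := xa.mul_right (xd.mul_right xe)
        rwa [he, hu, ← mul_assoc d d, F.sq_d, one_mul, ← mul_assoc a a, F.sq a ha, one_mul] at h1
      exact fix (mul_mem gG hG) (ge.mul_left hge) (ga.mul_left ha'')
        (F.move_mul ha ga ha'' (fun q => ng (fix gG ge ga q)) (fun q => nh (fix hG hge ha'' q)))
    exact hkb (cj_eq_iff.mpr (mem_cn3.mp (hle3 hk)).2.2.2)
  · have hPH' : cn G₀ [d, a, b] ≤ cn G₀ [e, u] := hH.symm ▸ hPH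
    obtain ⟨-, -, -, n1, n2, n3, -⟩ := id h
    have hfix : ∀ p ∈ cn G₀ [d, a, b], Commute p a' := by
      intro p hp
      refine perfect_fix hP ![a', b', c'] ?_ (fun q hq i => ?_) p hp 0
      · intro i j
        fin_cases i <;> fin_cases j <;> simp [n1, n2, n3, n1.symm, n2.symm, n3.symm]
      · obtain ⟨qG, qe, qu⟩ := mem_cn2.mp (hPH' hq)
        have key := F'.perm3 a' b' c' h q (mem_cn1.mpr ⟨qG, qe⟩) (hu' ▸ qu) (![a', b', c'] i)
          (by fin_cases i <;> simp)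
        rcases key with k | k | k
        exacts [⟨0, k⟩, ⟨1, k⟩, ⟨2, k⟩]
    obtain ⟨k, hk, k1, k2, k3⟩ := F'.trans3 _ _ _ _ _ _ h h.rot
    obtain ⟨-, -, -, -, -, -, q1, q2, q3⟩ := h
    have ku : Commute k u := cj_eq_iff.mp (by
      rw [hu', show k * (a' * b' * c') * k⁻¹ = k * a' * k⁻¹ * (k * b' * k⁻¹) * (k * c' * k⁻¹) by group,
        k1, k2, k3]
      rw [mul_assoc a' b' c', (q1.mul_right q2).eq])
    obtain ⟨kG, ke⟩ := mem_cn1.mp hk
    have km : k ∈ cn G₀ [d, u] := hH ▸ mem_cn2.mpr ⟨kG, ke, ku⟩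
    have kn : k ∉ cn G₀ [d, a, b] := fun q => n1 ((cj_eq_iff.mpr (hfix k q)).symm.trans k1)
    have := cj_eq_iff.mpr (hfix _ (htwo k km k km kn kn))
    rw [show k * k * a' * (k * k)⁻¹ = k * (k * a' * k⁻¹) * k⁻¹ by group, k1, k2] at this
    exact n2 this.symm

/-- no conjugate is the product of `d` with three members -/
theorem triple_not [Finite X] (hn : G₀.Normal) (F : Frame G₀ d T) (F' : Frame G₀ e T') {a b c : X}
    (h : Tri T a b c) (he : e = d * (a * b * c)) : False := by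
  obtain ⟨ha, hb, hc, n1, n2, n3, c1, c2, c3⟩ := id h
  obtain ⟨aG, ad⟩ := F.nmem ha
  obtain ⟨bG, bd⟩ := F.nmem hb
  obtain ⟨cG, cd⟩ := F.nmem hc
  set u := a * b * c with hu
  have hH : cn G₀ [e, u] = cn G₀ [d, u] := shift2 he F.sq_d
  have uu : u * u = 1 := by
    rw [hu, show a * b * c * (a * b * c) = a * (b * c * a) * (b * c) by group,
      ← (c1.mul_right c2).eq, show a * (a * (b * c)) * (b * c) = a * a * (b * (c * b) * c) by group,
      ← c3.eq, show b * (b * c) * c = b * b * (c * c) by group, F.sq a ha, F.sq b hb, F.sq c hc]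
    group
  have u1 : u ≠ 1 := fun q => F.ind3 a b c h (by
    rw [eq_inv_of_mul_eq_one_left q, inv_eq_of_mul_eq_one_left (F.sq c hc)])
  have ue : u ∈ cn G₀ [e] := mem_cn1.mpr ⟨mul_mem (mul_mem aG bG) cG,
    he ▸ ((ad.mul_left bd).mul_left cd).mul_right (Commute.refl _)⟩
  have inj : Function.Injective ![a, b, c] := by
    intro i j
    fin_cases i <;> fin_cases j <;> simp [n1, n2, n3, n1.symm, n2.symm, n3.symm]
  -- perfect subgroups of the joint centraliser fix the three members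
  have hfix : ∀ P : Subgroup X, ⁅P, P⁆ = P → P ≤ cn G₀ [d, u] →
      ∀ p ∈ P, Commute p a ∧ Commute p b := by
    intro P hP hle p hp
    have key := perfect_fix hP ![a, b, c] inj (fun q hq i => ?_) p hp
    · exact ⟨key 0, key 1⟩
    · obtain ⟨qG, qd, qu⟩ := mem_cn2.mp (hle hq)
      rcases F.perm3 a b c h q (mem_cn1.mpr ⟨qG, qd⟩) qu (![a, b, c] i)
        (by fin_cases i <;> simp) with k | k | k
      exacts [⟨0, k⟩, ⟨1, k⟩, ⟨2, k⟩]
  obtain ⟨s, hs, s1, s2, s3⟩ := F.trans3 _ _ _ _ _ _ h h.rot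
  have su : Commute s u := cj_eq_iff.mp (by
    rw [hu, show s * (a * b * c) * s⁻¹ = s * a * s⁻¹ * (s * b * s⁻¹) * (s * c * s⁻¹) by group,
      s1, s2, s3, mul_assoc a b c, (c1.mul_right c2).eq])
  obtain ⟨sG, sd⟩ := mem_cn1.mp hs
  have sH : s ∈ cn G₀ [d, u] := mem_cn2.mpr ⟨sG, sd, su⟩
  obtain ⟨w, hw, w1, w2, w3⟩ := F.trans3 _ _ _ _ _ _ h h.swap
  have wu : Commute w u := cj_eq_iff.mp (by
    rw [hu, show w * (a * b * c) * w⁻¹ = w * a * w⁻¹ * (w * b * w⁻¹) * (w * c * w⁻¹) by group,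
      w1, w2, w3, mul_assoc a c b, ← c3.eq, mul_assoc])
  obtain ⟨wG, wd⟩ := mem_cn1.mp hw
  have wH : w ∈ cn G₀ [d, u] := mem_cn2.mpr ⟨wG, wd, wu⟩
  rcases F'.classify u ue uu u1 with h' | ⟨a', b', ha', hb', n', c', hu'⟩ | ⟨a', b', c', h', hu'⟩
  · have hp := F'.perf1 u h'
    rw [hH] at hp
    exact n3 ((cj_eq_iff.mpr (hfix _ hp le_rfl w wH).2).symm.trans w2)
  · have hle2 : cn G₀ [e, a', b'] ≤ cn G₀ [d, u] := fun x hx => by
      obtain ⟨xG, xe, xa, xb⟩ := mem_cn3.mp hx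
      rw [← hH]
      exact mem_cn2.mpr ⟨xG, xe, hu' ▸ xa.mul_right xb⟩
    have hf := hfix _ (F'.perf2 a' ha' b' hb' n' c') hle2
    have sH' := sH
    rw [← hH] at sH'
    obtain ⟨-, se, -⟩ := mem_cn2.mp sH'
    rcases F'.perm2 a' ha' b' hb' n' c' s (mem_cn1.mpr ⟨sG, se⟩) (hu' ▸ su) with ⟨q1, q2⟩ | ⟨q1, q2⟩
    · have := hf s (mem_cn3.mpr ⟨sG, se, cj_eq_iff.mp q1, cj_eq_iff.mp q2⟩)
      exact n1 ((cj_eq_iff.mpr this.1).symm.trans s1)
    · have := hf (s * s) (mem_cn3.mpr ⟨mul_mem sG sG, se.mul_left se,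
        cj_eq_iff.mp (by rw [show s * s * a' * (s * s)⁻¹ = s * (s * a' * s⁻¹) * s⁻¹ by group, q1, q2]),
        cj_eq_iff.mp (by rw [show s * s * b' * (s * s)⁻¹ = s * (s * b' * s⁻¹) * s⁻¹ by group, q2, q1])⟩)
      have e1 := cj_eq_iff.mpr this.1
      rw [show s * s * a * (s * s)⁻¹ = s * (s * a * s⁻¹) * s⁻¹ by group, s1, s2] at e1
      exact n2 e1.symm
  -- three members at both ends: look at `a` from the other end
  have au : Commute a u := ((Commute.refl a).mul_right c1).mul_right c2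
  have ae : a ∈ cn G₀ [e] := mem_cn1.mpr ⟨aG, he ▸ ad.mul_right au⟩
  have fix : ∀ {x}, x ∈ G₀ → Commute x e → Commute x a → Commute x d → x ∈ cn G₀ [d, a, u] := by
    intro x xG xe xa xd
    refine mem_cn3.mpr ⟨xG, xd, xa, ?_⟩
    have h1 := xd.mul_right xe
    rwa [he, ← mul_assoc, F.sq_d, one_mul] at h1
  have htwo : ∀ g ∈ cn G₀ [e, a], ∀ k ∈ cn G₀ [e, a], g ∉ cn G₀ [d, a, u] → k ∉ cn G₀ [d, a, u] →
      g * k ∈ cn G₀ [d, a, u] := by
    intro g hg k hk ng nk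
    obtain ⟨gG, ge, ga⟩ := mem_cn2.mp hg
    obtain ⟨kG, ke, ka⟩ := mem_cn2.mp hk
    exact fix (mul_mem gG kG) (ge.mul_left ke) (ga.mul_left ka)
      (F.move_mul ha ga ka (fun q => ng (fix gG ge ga q)) (fun q => nk (fix kG ke ka q)))
  have hKH : cn G₀ [d, a, u] ≤ cn G₀ [d, u] := fun x hx => by
    obtain ⟨xG, xd, -, xu⟩ := mem_cn3.mp hx
    exact mem_cn2.mpr ⟨xG, xd, xu⟩
  rcases F'.classify a ae (F.sq a ha) (F.ne1 a ha) with
    q | ⟨p, q, hp, hq, npq, cpq, hpq⟩ | ⟨p, q, r, hpqr, hap⟩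
  · have hle : cn G₀ [e, a] ≤ cn G₀ [d, a, u] := perfect_le (F'.perf1 a q) le_rfl htwo
    have we : w ∈ cn G₀ [e, a] := mem_cn2.mpr ⟨wG, he ▸ wd.mul_right wu, cj_eq_iff.mp w1⟩
    exact n3 ((cj_eq_iff.mpr (hfix _ (F'.perf1 a q) (hle.trans hKH) w we).2).symm.trans w2)
  · have hle0 : cn G₀ [e, p, q] ≤ cn G₀ [e, a] := fun x hx => by
      obtain ⟨xG, xe, xp, xq⟩ := mem_cn3.mp hx
      exact mem_cn2.mpr ⟨xG, xe, hpq ▸ xp.mul_right xq⟩
    have hP2 := F'.perf2 p hp q hq npq cpq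
    have hle : cn G₀ [e, p, q] ≤ cn G₀ [e, u] :=
      ((perfect_le hP2 hle0 htwo).trans hKH).trans hH.ge
    obtain ⟨ha', hb', hc', m1, m2, m3, q1, q2, q3⟩ := id h'
    have hfix' := perfect_fix hP2 ![a', b', c'] (by
      intro i j
      fin_cases i <;> fin_cases j <;> simp [m1, m2, m3, m1.symm, m2.symm, m3.symm]) (fun x hx i => by
        obtain ⟨xG, xe, xu⟩ := mem_cn2.mp (hle hx)
        rcases F'.perm3 a' b' c' h' x (mem_cn1.mpr ⟨xG, xe⟩) (hu' ▸ xu) (![a', b', c'] i)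
          (by fin_cases i <;> simp) with k | k | k
        exacts [⟨0, k⟩, ⟨1, k⟩, ⟨2, k⟩])
    have hmem : ∀ i, ![a', b', c'] i = p ∨ ![a', b', c'] i = q := by
      intro i
      by_contra hne
      push Not at hne
      obtain ⟨hpG, hpe⟩ := F'.nmem hp
      obtain ⟨hqG, hqe⟩ := F'.nmem hq
      have hx : ![a', b', c'] i ∈ T' := by fin_cases i <;> assumption
      have cp := (hfix' p (mem_cn3.mpr ⟨hpG, hpe, Commute.refl p, cpq⟩) i)
      have cq := (hfix' q (mem_cn3.mpr ⟨hqG, hqe, cpq.symm, Commute.refl q⟩) i)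
      obtain ⟨k, hk, hkm⟩ := F'.moves2 p q _ ⟨hp, hq, hx, npq, hne.1.symm, hne.2.symm, cpq, cp, cq⟩
      exact hkm (cj_eq_iff.mpr (hfix' k hk i))
    rcases hmem 0 with x0 | x0 <;> rcases hmem 1 with x1 | x1 <;> rcases hmem 2 with x2 | x2
    exacts [m1 (x0.trans x1.symm), m1 (x0.trans x1.symm), m2 (x0.trans x2.symm), m3 (x1.trans x2.symm),
      m3 (x1.trans x2.symm), m2 (x0.trans x2.symm), m1 (x0.trans x1.symm), m1 (x0.trans x1.symm)]
  · obtain ⟨k, hk, k1, k2, k3⟩ := F'.trans3 _ _ _ _ _ _ hpqr h'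
    have hka : k * a * k⁻¹ = u := by
      rw [hap, hu', ← k1, ← k2, ← k3]; group
    have hcard : Nat.card ↥(cn G₀ [e, a]) = Nat.card ↥(cn G₀ [d, u]) := by
      rw [← hH]
      have e1 := cn_map hn k [e, a]
      simp only [List.map_cons, List.map_nil, cj_apply] at e1
      rw [cj_eq_iff.mpr (mem_cn1.mp hk).2, hka] at e1
      rw [← e1]
      exact Nat.card_congr (Subgroup.equivMapOfInjective _ _ (MulAut.conj k).injective).toEquiv
    set K := cn G₀ [d, a, u]
    -- the lower bound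
    let r : Fin 3 → X := ![1, s, s * s]
    have rH : ∀ i, r i ∈ cn G₀ [d, u] := fun i => by
      fin_cases i
      exacts [one_mem _, sH, mul_mem sH sH]
    have ra : ∀ i, r i * a * (r i)⁻¹ = ![a, b, c] i := fun i => by
      fin_cases i
      · simp [r]
      · exact s1
      · show s * s * a * (s * s)⁻¹ = c
        rw [show s * s * a * (s * s)⁻¹ = s * (s * a * s⁻¹) * s⁻¹ by group, s1, s2]
    have low : 3 * Nat.card ↥K ≤ Nat.card ↥(cn G₀ [d, u]) := by
      let f : Fin 3 × ↥K → ↥(cn G₀ [d, u]) := fun z => ⟨r z.1 * z.2, mul_mem (rH z.1) (hKH z.2.2)⟩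
      have hf : Function.Injective f := by
        rintro ⟨i, x⟩ ⟨j, y⟩ exy
        have e1 : r i * x = r j * y := congrArg Subtype.val exy
        have fixa : ∀ (i : Fin 3) (x : ↥K), r i * x * a * (r i * x)⁻¹ = ![a, b, c] i := fun i x => by
          rw [show r i * x * a * (r i * x)⁻¹ = r i * ((x : X) * a * (x : X)⁻¹) * (r i)⁻¹ by group,
            cj_eq_iff.mpr (mem_cn3.mp x.2).2.2.1, ra i]
        have : i = j := inj (by rw [← fixa i x, ← fixa j y, e1])
        subst this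
        exact Prod.ext rfl (Subtype.ext (mul_left_cancel e1))
      have := Nat.card_le_card_of_injective f hf
      rwa [Nat.card_prod, Nat.card_fin] at this
    -- the upper bound
    have high : Nat.card ↥(cn G₀ [e, a]) ≤ 2 * Nat.card ↥K := by
      classical
      by_cases hex : ∃ g ∈ cn G₀ [e, a], g ∉ K
      · obtain ⟨g, hg, ng⟩ := hex
        let f : ↥(cn G₀ [e, a]) → Bool × ↥K := fun x =>
          if hx : (x : X) ∈ K then (true, ⟨x, hx⟩) else (false, ⟨g * x, htwo g hg x x.2 ng hx⟩)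
        have hf : Function.Injective f := by
          intro x y exy
          simp only [f] at exy
          by_cases hx : (x : X) ∈ K <;> by_cases hy : (y : X) ∈ K <;>
            simp only [hx, hy, dif_pos, dif_neg, not_false_eq_true, Prod.mk.injEq, Subtype.mk.injEq,
              mul_right_inj, Bool.true_eq_false, Bool.false_eq_true, false_and, true_and] at exy
          · exact Subtype.ext exy
          · exact Subtype.ext exy
        have := Nat.card_le_card_of_injective f hf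
        rwa [Nat.card_prod, Nat.card_eq_fintype_card (α := Bool), Fintype.card_bool] at this
      · push Not at hex
        have := Subgroup.card_le_of_le (show cn G₀ [e, a] ≤ K from hex)
        omega
    have pos : 0 < Nat.card ↥K := Nat.card_pos
    omega

/-- the class of `d` around `d` -/
theorem nb_cases [Finite X] (hidx : G₀.index = 2) (F : Frame G₀ d T) (F' : Frame G₀ e T')
    (hne : e ≠ d) (hc : Commute d e) : ∃ a ∈ T, e = d * a := by
  have hn : G₀.Normal := Subgroup.normal_of_index_eq_two hidx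
  have he : e = d * (d * e) := by rw [← mul_assoc, F.sq_d, one_mul]
  have hy : d * e ∈ cn G₀ [d] := mem_cn1.mpr ⟨(Subgroup.mul_mem_iff_of_index_two hidx).mpr
    ⟨fun q => absurd q F.out, fun q => absurd q F'.out⟩, (Commute.refl d).mul_left hc.symm⟩
  have hyy : d * e * (d * e) = 1 := by
    rw [show d * e * (d * e) = d * (e * d) * e by group, ← hc.eq,
      show d * (d * e) * e = d * d * (e * e) by group, F.sq_d, F'.sq_d, one_mul]
  have hy1 : d * e ≠ 1 := fun q => hne (by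
    rw [eq_inv_of_mul_eq_one_right q, inv_eq_of_mul_eq_one_left F.sq_d])
  rcases F.classify _ hy hyy hy1 with h | ⟨a, b, ha, hb, n, c, q⟩ | ⟨a, b, c, h, q⟩
  · exact ⟨_, h, he⟩
  · exact (pair_not F F' ha hb n c (by rw [← q]; exact he)).elim
  · exact (triple_not hn F F' h (by rw [← q]; exact he)).elim

end Cfsg.Agent.H41.AutFi
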