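import Cfsg.Agent.H41.AutFi.Nb
import Cfsg.Agent.H2.FiCentral.Ext

/-!
The class of `d`: neighbours, transitivity, and a conjugate commuting with the product of two commuting
conjugates commutes with both.
-/

set_option autoImplicit false

namespace Cfsg.Agent.H41.AutFi

open Cfsg.Agent.H93
open Cfsg.Agent.H2.FiCentral (Inv Loc)

variable {X : Type*} [Group X] {G₀ : Subgroup X} {d : X} {T : Set X} (S : Setting G₀ d T)

include S

theorem Setting.member_class {a : X} (ha : a ∈ T) : d * a ∈ conjugatesOf d := by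
  obtain ⟨g, hg, ga, gd⟩ := S.moves a ha
  exact isConj_iff.mpr ⟨g, S.conj_out ha hg ga gd⟩

theorem Setting.inv : H2.FiCentral.Inv (conjugatesOf d) where
  sq a ha := by
    obtain ⟨g, rfl⟩ := isConj_iff.mp ha
    rw [show g * d * g⁻¹ * (g * d * g⁻¹) = g * (d * d) * g⁻¹ by group, S.sq]; group
  conj_mem g _ ha := IsConj.trans ha (isConj_iff.mpr ⟨g, rfl⟩)

theorem Setting.class_out {y : X} (hy : y ∈ conjugatesOf d) : y ∉ G₀ := by
  obtain ⟨g, rfl⟩ := isConj_iff.mp hy
  exact fun h => S.out (by simpa [mul_assoc] using S.normal.conj_mem _ h g⁻¹)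

theorem Setting.ne_self {a : X} (ha : a ∈ T) : d * a ≠ d := fun e =>
  S.ne_one ha (mul_eq_left.mp e)

theorem Setting.member_nb {a : X} (ha : a ∈ T) : d * a ∈ nb (conjugatesOf d) d :=
  ⟨S.member_class ha, S.ne_self ha,
    (Commute.refl d).mul_right (mem_cn1.mp (S.le a ha)).2.symm⟩

variable [Finite X]

theorem Setting.nb_iff {y : X} : y ∈ nb (conjugatesOf d) d ↔ ∃ a ∈ T, y = d * a := by
  refine ⟨fun hy => ?_, fun ⟨a, ha, e⟩ => e ▸ S.member_nb ha⟩
  obtain ⟨g, rfl⟩ := isConj_iff.mp hy.1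
  exact nb_cases S.idx S.frame (S.frame.conj S.normal g) hy.2.1 hy.2.2

theorem Setting.loc : Loc (conjugatesOf d) := by
  refine ⟨S.inv, fun a ha e => S.class_out ha (e ▸ one_mem _),
    fun a ha b hb => IsConj.trans (IsConj.symm ha) hb, ?_⟩
  intro a ha v hv w hw
  obtain ⟨g, rfl⟩ := isConj_iff.mp ha
  have back : ∀ {z}, z ∈ nb (conjugatesOf d) (g * d * g⁻¹) →
      g⁻¹ * z * g ∈ nb (conjugatesOf d) d := by
    intro z hz
    have := S.inv.nb_conj g⁻¹ hz
    rwa [show g⁻¹ * (g * d * g⁻¹) * g⁻¹⁻¹ = d by group, inv_inv] at this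
  obtain ⟨p, hp, ep⟩ := S.nb_iff.mp (back hv)
  obtain ⟨q, hq, eq⟩ := S.nb_iff.mp (back hw)
  obtain ⟨k, hk, ek⟩ := S.frame.transT q hq p hp
  have kd : Commute k d := (mem_cn1.mp hk).2
  have e : k * (g⁻¹ * w * g) * k⁻¹ = g⁻¹ * v * g := by
    rw [eq, ep, show k * (d * q) * k⁻¹ = k * d * k⁻¹ * (k * q * k⁻¹) by group,
      cj_eq_iff.mpr kd, ek]
  refine ⟨g * k * g⁻¹, cj_comm g kd, ?_⟩
  calc g * k * g⁻¹ * w * (g * k * g⁻¹)⁻¹ = g * (k * (g⁻¹ * w * g) * k⁻¹) * g⁻¹ := by group
    _ = v := by rw [e]; group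

/-- the centralisers of two members in the centraliser of `d` have the same size -/
theorem Setting.card_pair {a b : X} (ha : a ∈ T) (hb : b ∈ T) :
    Nat.card ↥(cn G₀ [d, a]) = Nat.card ↥(cn G₀ [d, b]) := by
  obtain ⟨k, hk, e⟩ := S.frame.transT a ha b hb
  have e1 := cn_map S.normal k [d, a]
  simp only [List.map_cons, List.map_nil, cj_apply] at e1
  rw [cj_eq_iff.mpr (mem_cn1.mp hk).2, e] at e1
  rw [← e1]
  exact Nat.card_congr (Subgroup.equivMapOfInjective _ _ (MulAut.conj k).injective).toEquiv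

/-- a conjugate centralising a member centralises `d` -/
theorem Setting.member_comm {a v : X} (ha : a ∈ T) (hv : v ∈ conjugatesOf d) (hva : Commute v a) :
    Commute v d := by
  by_contra hvd
  have F := S.frame
  obtain ⟨aG, ad⟩ := F.nmem ha
  have vd : v * d * v⁻¹ = d * a := (S.cases ha hva).resolve_left fun q => hvd (cj_eq_iff.mp q)
  obtain ⟨g, rfl⟩ := isConj_iff.mp hv
  have F' := F.conj S.normal g
  set v := g * d * g⁻¹ with hvdef
  have vi : v⁻¹ = v := inv_eq_of_mul_eq_one_left F'.sq_d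
  have di : d⁻¹ = d := inv_eq_of_mul_eq_one_left S.sq
  have dv : d * v * d⁻¹ = v * a := by
    have e : v * d = d * a * v := mul_inv_eq_iff_eq_mul.mp vd
    calc d * v * d⁻¹ = d * (v * d) := by rw [di]; exact mul_assoc d v d
      _ = d * d * a * v := by rw [e]; group
      _ = a * v := by rw [S.sq, one_mul]
      _ = v * a := hva.eq.symm
  have fact : ∀ {p}, p ∈ (fun x => g * x * g⁻¹) '' T → Commute d p → p = a := by
    intro p hp hdp
    rcases F'.cases p hp d hdp with q | q
    · exact absurd (cj_eq_iff.mp q).symm hvd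
    · exact mul_left_cancel (q.symm.trans dv)
  rcases F'.classify a (mem_cn1.mpr ⟨aG, hva.symm⟩) (F.sq a ha) (F.ne1 a ha) with
    h | ⟨p, q, hp, hq, npq, cpq, hpq⟩ | ⟨p, q, r, h, hap⟩
  · have hle : cn G₀ [v, a] ≤ cn G₀ [d, a] := by
      refine perfect_le (F'.perf1 a h) le_rfl fun x hx y hy nx ny => ?_
      obtain ⟨xG, -, xa⟩ := mem_cn2.mp hx
      obtain ⟨yG, -, ya⟩ := mem_cn2.mp hy
      exact mem_cn2.mpr ⟨mul_mem xG yG,
        F.move_mul ha xa ya (fun q => nx (mem_cn2.mpr ⟨xG, q, xa⟩))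
          (fun q => ny (mem_cn2.mpr ⟨yG, q, ya⟩)), xa.mul_left ya⟩
    have hcard : Nat.card ↥(cn G₀ [v, a]) = Nat.card ↥(cn G₀ [d, a]) := by
      obtain ⟨a0, ha0, e0⟩ := h
      have e1 := cn_map S.normal g [d, a0]
      simp only [List.map_cons, List.map_nil, cj_apply] at e1
      simp only at e0
      rw [← hvdef, e0] at e1
      rw [← e1, ← S.card_pair ha0 ha]
      exact Nat.card_congr (Subgroup.equivMapOfInjective _ _ (MulAut.conj g).injective).toEquiv.symm
    have heq := Subgroup.eq_of_le_of_card_ge hle hcard.ge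
    have huG : v * d ∈ G₀ := (Subgroup.mul_mem_iff_of_index_two S.idx).mpr
      ⟨fun q => absurd q F'.out, fun q => absurd q S.out⟩
    rcases S.selfc a ha (v * d) huG (fun x hx => by
        obtain ⟨-, xd, -⟩ := mem_cn2.mp hx
        exact (mem_cn2.mp (heq.symm ▸ hx : x ∈ cn G₀ [v, a])).2.1.symm.mul_left xd.symm) with e | e
    · exact hvd (show Commute v d by
        rw [eq_inv_of_mul_eq_one_left e, di])
    · refine hvd ?_
      rw [show v = a * d by rw [← e, mul_assoc, S.sq, mul_one]]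
      exact ad.mul_left (Commute.refl d)
  · obtain ⟨pG, pv⟩ := F'.nmem hp
    obtain ⟨qG, qv⟩ := F'.nmem hq
    have pp := F'.sq p hp
    have qq := F'.sq q hq
    have cpa : Commute p a := hpq ▸ (Commute.refl p).mul_right cpq
    have cqa : Commute q a := hpq ▸ cpq.symm.mul_right (Commute.refl q)
    have np : ¬ Commute d p := fun c => by
      have := fact hp c
      rw [this] at hpq
      exact F'.ne1 q hq (mul_eq_left.mp hpq.symm)
    have nq : ¬ Commute d q := fun c => by
      have := fact hq c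
      rw [this] at hpq
      exact F'.ne1 p hp (mul_eq_right.mp hpq.symm)
    have step : ∀ {p}, p ∈ (fun x => g * x * g⁻¹) '' T → Commute p a → ¬ Commute d p →
        ∃ s ∈ T, d * s = v * p ∧ s ≠ a := by
      intro p hp cpa np
      obtain ⟨pG, pv⟩ := F'.nmem hp
      have hr : v * p ∈ conjugatesOf d := by
        obtain ⟨p0, hp0, rfl⟩ := hp
        have := S.inv.conj_mem g _ (S.member_class hp0)
        rwa [show g * (d * p0) * g⁻¹ = v * (g * p0 * g⁻¹) by rw [hvdef]; group] at this
      have pd : p * d * p⁻¹ = d * a :=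
        (S.cases ha cpa).resolve_left fun q => np (cj_eq_iff.mp q).symm
      have hrd : Commute d (v * p) := by
        refine (cj_eq_iff.mp ?_).symm
        rw [show v * p * d * (v * p)⁻¹ = v * (p * d * p⁻¹) * v⁻¹ by group, pd,
          show v * (d * a) * v⁻¹ = v * d * v⁻¹ * (v * a * v⁻¹) by group, vd, cj_eq_iff.mpr hva,
          mul_assoc, F.sq a ha, mul_one]
      have hne : v * p ≠ d := fun q => hvd (q ▸ (Commute.refl v).mul_right pv.symm)
      obtain ⟨s, hs, e⟩ := S.nb_iff.mp ⟨hr, hne, hrd⟩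
      refine ⟨s, hs, e.symm, fun sa => hvd ?_⟩
      have h1 : Commute v (d * a) := sa ▸ e ▸ (Commute.refl v).mul_right pv.symm
      have h2 := h1.mul_right hva
      rwa [mul_assoc, F.sq a ha, mul_one] at h2
    obtain ⟨s, hs, es, nsa⟩ := step hp cpa np
    obtain ⟨t, ht, et, nta⟩ := step hq cqa nq
    have sd : Commute s d := (F.nmem hs).2
    have td : Commute t d := (F.nmem ht).2
    have cross : ∀ {p q : X}, Commute p v → Commute q v → v * p * (v * q) = p * q := fun {p q} pv qv => by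
      rw [show v * p * (v * q) = v * (p * v) * q by group, pv.eq, ← mul_assoc, F'.sq_d, one_mul]
    have crossd : ∀ {s t : X}, Commute s d → d * s * (d * t) = s * t := fun {s t} sd => by
      rw [show d * s * (d * t) = d * (s * d) * t by group, sd.eq, ← mul_assoc, S.sq, one_mul]
    have est : s * t = a := by rw [← crossd sd, es, et, cross pv qv, hpq]
    have ets : t * s = a := by rw [← crossd td, et, es, cross qv pv, ← cpq.eq, hpq]
    have nst : s ≠ t := fun e => F.ne1 a ha (by rw [← est, e, F.sq t ht])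
    have cst : Commute s t := est.trans ets.symm
    exact F.ind3 s t a ⟨hs, ht, ha, nst, nsa, nta, cst, est ▸ (Commute.refl s).mul_right cst,
      est ▸ cst.symm.mul_right (Commute.refl t)⟩ est
  · obtain ⟨hp, hq, hr, n1, n2, n3, c1, c2, c3⟩ := h
    have cpa : Commute p a := hap ▸ ((Commute.refl p).mul_right c1).mul_right c2
    have cqa : Commute q a := hap ▸ (c1.symm.mul_right (Commute.refl q)).mul_right c3
    have pp := F'.sq p hp
    have qq := F'.sq q hq
    have rr := F'.sq r hr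
    by_cases dp : Commute d p
    · have := fact hp dp
      rw [this, mul_assoc] at hap
      exact n3 (by rw [eq_inv_of_mul_eq_one_left (mul_eq_left.mp hap.symm), inv_eq_of_mul_eq_one_left rr])
    by_cases dq : Commute d q
    · have := fact hq dq
      rw [c1.eq, this, mul_assoc] at hap
      exact n2 (by rw [eq_inv_of_mul_eq_one_left (mul_eq_left.mp hap.symm), inv_eq_of_mul_eq_one_left rr])
    have hpq : Commute (p * q) d := F.move_mul ha cpa cqa (fun c => dp c.symm) (fun c => dq c.symm)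
    have hr' : Commute d r := by
      have e : r = (p * q)⁻¹ * a := by rw [hap, inv_mul_cancel_left]
      rw [e]
      exact hpq.symm.inv_right.mul_right ad.symm
    have := fact hr hr'
    rw [this] at hap
    exact n1 (by rw [eq_inv_of_mul_eq_one_left (mul_eq_right.mp hap.symm), inv_eq_of_mul_eq_one_left qq])

/-- a conjugate centralising the product of a commuting pair centralises the first of the pair -/
theorem Setting.pair_comm {a b v : X} (ha : a ∈ conjugatesOf d) (hb : b ∈ nb (conjugatesOf d) a)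
    (hv : v ∈ conjugatesOf d) (h : Commute v (a * b)) : Commute v a := by
  obtain ⟨g, rfl⟩ := isConj_iff.mp ha
  have hb' := S.inv.nb_conj g⁻¹ hb
  rw [show g⁻¹ * (g * d * g⁻¹) * g⁻¹⁻¹ = d by group] at hb'
  obtain ⟨s, hs, e⟩ := S.nb_iff.mp hb'
  have hs' : g * s * g⁻¹ = g * d * g⁻¹ * b := by
    rw [show g * d * g⁻¹ * b = g * d * (g⁻¹ * b * g⁻¹⁻¹) * g⁻¹ by group, e, ← mul_assoc (g * d) d,
      show g * d * d = g * (d * d) by group, S.sq, mul_one]
  have h1 : Commute (g⁻¹ * v * g⁻¹⁻¹) s := by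
    refine comm_of_cj (g := g) ?_
    rw [hs', show g * (g⁻¹ * v * g⁻¹⁻¹) * g⁻¹ = v by group]
    exact h
  have h2 := (S.member_comm hs (S.inv.conj_mem g⁻¹ v hv) h1).map (cj g)
  rwa [cj_apply, cj_apply, show g * (g⁻¹ * v * g⁻¹⁻¹) * g⁻¹ = v by group] at h2

end Cfsg.Agent.H41.AutFi
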