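import Cfsg.Agent.H41.AutFi.Generic
import Cfsg.Agent.H93.Invol24
import Cfsg.Agent.H93.Pair23

/-!
An outer involution `d` whose centraliser in a subgroup `G₀` of index two is of type M(23): the facts
about a member of the class and about small commuting sets of members, in the language of the whole
group, in a form stable under conjugation.
-/

set_option autoImplicit false

namespace Cfsg.Agent.H41.AutFi

open Cfsg.Agent.H93
open scoped commutatorElement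

variable {X : Type*} [Group X]

/-- the members inside the centraliser of `d` -/
abbrev sub (G₀ : Subgroup X) (d : X) (T : Set X) : Set ↥(cn G₀ [d]) := {x | (x : X) ∈ T}

/-- the hypotheses on an outer involution and the class inside its centraliser -/
structure Setting (G₀ : Subgroup X) (d : X) (T : Set X) : Prop where
  idx : G₀.index = 2
  sq : d * d = 1
  out : d ∉ G₀
  le : ∀ a ∈ T, a ∈ cn G₀ [d]
  data : M23Data (sub G₀ d T)
  geo : Geo23 (sub G₀ d T)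
  perf : ∀ a ∈ T, ⁅cn G₀ [d, a], cn G₀ [d, a]⁆ = cn G₀ [d, a]
  moves : ∀ a ∈ T, ∃ g ∈ G₀, Commute g a ∧ ¬ Commute g d
  two : ∀ a ∈ T, ∀ g ∈ G₀, ∀ h ∈ G₀, Commute g a → Commute h a → ¬ Commute g d → ¬ Commute h d →
    Commute (g * h) d
  selfc : ∀ a ∈ T, ∀ u ∈ G₀, (∀ x ∈ cn G₀ [d, a], Commute u x) → u = 1 ∨ u = a

/-- three pairwise commuting different members -/
def Tri (T : Set X) (a b c : X) : Prop :=
  a ∈ T ∧ b ∈ T ∧ c ∈ T ∧ a ≠ b ∧ a ≠ c ∧ b ≠ c ∧ Commute a b ∧ Commute a c ∧ Commute b c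

theorem Tri.rot {T : Set X} {a b c : X} (h : Tri T a b c) : Tri T b c a := by
  obtain ⟨ha, hb, hc, n1, n2, n3, c1, c2, c3⟩ := h
  exact ⟨hb, hc, ha, n3, n1.symm, n2.symm, c3, c1.symm, c2.symm⟩

theorem Tri.swap {T : Set X} {a b c : X} (h : Tri T a b c) : Tri T a c b := by
  obtain ⟨ha, hb, hc, n1, n2, n3, c1, c2, c3⟩ := h
  exact ⟨ha, hc, hb, n2, n1, n3.symm, c2, c1, c3.symm⟩

theorem Tri.map {T : Set X} {a b c : X} (h : Tri T a b c) (g : X) :
    Tri ((fun x => g * x * g⁻¹) '' T) (g * a * g⁻¹) (g * b * g⁻¹) (g * c * g⁻¹) := by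
  obtain ⟨ha, hb, hc, n1, n2, n3, c1, c2, c3⟩ := h
  exact ⟨⟨a, ha, rfl⟩, ⟨b, hb, rfl⟩, ⟨c, hc, rfl⟩, fun e => n1 (cj_inj e), fun e => n2 (cj_inj e),
    fun e => n3 (cj_inj e), cj_comm g c1, cj_comm g c2, cj_comm g c3⟩

/-- what is used about the members in the centraliser of `d` -/
structure Frame (G₀ : Subgroup X) (d : X) (T : Set X) : Prop where
  sq_d : d * d = 1
  out : d ∉ G₀
  le : ∀ a ∈ T, a ∈ cn G₀ [d]
  sq : ∀ a ∈ T, a * a = 1
  ne1 : ∀ a ∈ T, a ≠ 1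
  conjT : ∀ k ∈ cn G₀ [d], ∀ a ∈ T, k * a * k⁻¹ ∈ T
  transT : ∀ a ∈ T, ∀ b ∈ T, ∃ k ∈ cn G₀ [d], k * a * k⁻¹ = b
  cases : ∀ a ∈ T, ∀ h : X, Commute h a → h * d * h⁻¹ = d ∨ h * d * h⁻¹ = d * a
  perf1 : ∀ a ∈ T, ⁅cn G₀ [d, a], cn G₀ [d, a]⁆ = cn G₀ [d, a]
  perf2 : ∀ a ∈ T, ∀ b ∈ T, a ≠ b → Commute a b → ⁅cn G₀ [d, a, b], cn G₀ [d, a, b]⁆ = cn G₀ [d, a, b]
  classify : ∀ y ∈ cn G₀ [d], y * y = 1 → y ≠ 1 → y ∈ T ∨
    (∃ a b, a ∈ T ∧ b ∈ T ∧ a ≠ b ∧ Commute a b ∧ y = a * b) ∨ ∃ a b c, Tri T a b c ∧ y = a * b * c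
  moves1 : ∀ a ∈ T, ∀ b ∈ T, a ≠ b → Commute a b → ∃ k ∈ cn G₀ [d, a], k * b * k⁻¹ ≠ b
  moves2 : ∀ a b c, Tri T a b c → ∃ k ∈ cn G₀ [d, a, b], k * c * k⁻¹ ≠ c
  swap2 : ∀ a ∈ T, ∀ b ∈ T, a ≠ b → Commute a b →
    ∃ k ∈ cn G₀ [d], k * a * k⁻¹ = b ∧ k * b * k⁻¹ = a
  perm2 : ∀ a ∈ T, ∀ b ∈ T, a ≠ b → Commute a b → ∀ k ∈ cn G₀ [d], Commute k (a * b) →
    k * a * k⁻¹ = a ∧ k * b * k⁻¹ = b ∨ k * a * k⁻¹ = b ∧ k * b * k⁻¹ = a
  perm3 : ∀ a b c, Tri T a b c → ∀ k ∈ cn G₀ [d], Commute k (a * b * c) → ∀ x ∈ [a, b, c],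
    k * x * k⁻¹ = a ∨ k * x * k⁻¹ = b ∨ k * x * k⁻¹ = c
  trans3 : ∀ a b c a' b' c', Tri T a b c → Tri T a' b' c' →
    ∃ k ∈ cn G₀ [d], k * a * k⁻¹ = a' ∧ k * b * k⁻¹ = b' ∧ k * c * k⁻¹ = c'
  kernel : ∀ a ∈ T, ∀ b ∈ T, a ≠ b → Commute a b → ∀ u ∈ cn G₀ [d, a, b],
    (∀ x ∈ cn G₀ [d, a, b], Commute u x) → u = 1 ∨ u = a ∨ u = b ∨ u = a * b
  ind3 : ∀ a b c, Tri T a b c → a * b ≠ c

theorem Frame.nmem {G₀ : Subgroup X} {d : X} {T : Set X} (F : Frame G₀ d T) {a : X} (ha : a ∈ T) :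
    a ∈ G₀ ∧ Commute a d := mem_cn1.mp (F.le a ha)

namespace Setting

variable {G₀ : Subgroup X} {d : X} {T : Set X} (S : Setting G₀ d T)

include S

theorem normal : G₀.Normal := Subgroup.normal_of_index_eq_two S.idx

theorem mul_mem_iff {g h : X} : g * h ∈ G₀ ↔ (g ∈ G₀ ↔ h ∈ G₀) :=
  Subgroup.mul_mem_iff_of_index_two S.idx

theorem mem_tt {a : X} (ha : a ∈ T) :
    (⟨a, S.le a ha⟩ : ↥(cn G₀ [d])) ∈ sub G₀ d T := ha

theorem sq_mem {a : X} (ha : a ∈ T) : a * a = 1 :=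
  congrArg Subtype.val (S.data.core.tt.sq _ (S.mem_tt ha))

theorem ne_one {a : X} (ha : a ∈ T) : a ≠ 1 := fun e =>
  S.data.core.ne_one _ (S.mem_tt ha) (Subtype.ext e)

/-- an element of `G₀` centralising a member and moving `d` sends it to `d * a` -/
theorem conj_out {a g : X} (ha : a ∈ T) (hg : g ∈ G₀) (ga : Commute g a) (gd : ¬ Commute g d) :
    g * d * g⁻¹ = d * a := by
  have hn := S.normal
  obtain ⟨aG, ad⟩ := mem_cn1.mp (S.le a ha)
  set P := cn G₀ [d, a]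
  have hP := S.perf a ha
  have key : ∀ x ∈ P, Commute (g⁻¹ * x * g) d := by
    have h1 := perfect_map (cj g⁻¹) hP
    have hle : P.map (cj g⁻¹) ≤ cn G₀ [a] := by
      rintro _ ⟨x, hx, rfl⟩
      obtain ⟨xG, -, xa⟩ := mem_cn2.mp hx
      refine mem_cn1.mpr ⟨hn.conj_mem x xG g⁻¹, ?_⟩
      have h2 := xa.map (cj g⁻¹)
      rwa [cj_apply g⁻¹ a, cj_eq_iff.mpr ga.inv_left] at h2
    have h3 : P.map (cj g⁻¹) ≤ Subgroup.centralizer ({d} : Set X) :=
      perfect_le h1 hle fun p hp q hq np nq => by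
        obtain ⟨pG, pa⟩ := mem_cn1.mp hp
        obtain ⟨qG, qa⟩ := mem_cn1.mp hq
        exact Subgroup.mem_centralizer_singleton_iff.mpr (S.two a ha p pG q qG pa qa
          (fun c => np (Subgroup.mem_centralizer_singleton_iff.mpr c))
          (fun c => nq (Subgroup.mem_centralizer_singleton_iff.mpr c)))
    intro x hx
    have := Subgroup.mem_centralizer_singleton_iff.mp (h3 ⟨x, hx, rfl⟩)
    rwa [cj_apply, inv_inv] at this
  have hu : d * (g * d * g⁻¹) ∈ G₀ :=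
    S.mul_mem_iff.mpr ⟨fun q => absurd q S.out, fun q => absurd (by simpa [mul_assoc] using hn.conj_mem _ q g⁻¹) S.out⟩
  rcases S.selfc a ha _ hu (fun x hx => by
      obtain ⟨-, xd, -⟩ := mem_cn2.mp hx
      refine (xd.symm).mul_left ?_
      have h4 := (key x hx).symm.map (cj g)
      rwa [cj_apply, cj_apply, show g * (g⁻¹ * x * g) * g⁻¹ = x by group] at h4) with e | e
  · refine absurd (cj_eq_iff.mp ?_) gd
    have := eq_inv_of_mul_eq_one_right e
    rwa [inv_eq_of_mul_eq_one_left S.sq] at this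
  · rw [← e, ← mul_assoc, S.sq, one_mul]

/-- the images of `d` under the centraliser of a member -/
theorem cases {a : X} (ha : a ∈ T) {h : X} (hc : Commute h a) :
    h * d * h⁻¹ = d ∨ h * d * h⁻¹ = d * a := by
  by_cases hh : h ∈ G₀
  · by_cases c : Commute h d
    · exact Or.inl (cj_eq_iff.mpr c)
    · exact Or.inr (S.conj_out ha hh hc c)
  · have hd' : h * d ∈ G₀ := S.mul_mem_iff.mpr ⟨fun q => absurd q hh, fun q => absurd q S.out⟩
    have hca : Commute (h * d) a := hc.mul_left (mem_cn1.mp (S.le a ha)).2.symm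
    have he : h * d * d * (h * d)⁻¹ = h * d * h⁻¹ := by group
    by_cases c : Commute (h * d) d
    · exact Or.inl (he ▸ cj_eq_iff.mpr c)
    · exact Or.inr (he ▸ S.conj_out ha hd' hca c)

theorem map_cent (s : List ↥(cn G₀ [d])) :
    (Subgroup.centralizer {x | x ∈ s}).map (cn G₀ [d]).subtype =
      cn G₀ (d :: s.map Subtype.val) := by
  ext y
  rw [Subgroup.mem_map, mem_cn]
  constructor
  · rintro ⟨k, hk, rfl⟩
    refine ⟨(mem_cn1.mp k.2).1, fun z hz => ?_⟩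
    rcases List.mem_cons.mp hz with rfl | hz
    · exact (mem_cn1.mp k.2).2
    obtain ⟨w, hw, rfl⟩ := List.mem_map.mp hz
    exact ((congrArg Subtype.val (Subgroup.mem_centralizer_iff.mp hk w hw)).symm :)
  · rintro ⟨yG, hy⟩
    refine ⟨⟨y, mem_cn1.mpr ⟨yG, hy d List.mem_cons_self⟩⟩,
      Subgroup.mem_centralizer_iff.mpr fun w hw => Subtype.ext
        (hy _ (List.mem_cons_of_mem _ (List.mem_map_of_mem (f := Subtype.val) hw))).eq.symm,
      rfl⟩

/-- the setting gives the frame at `d` -/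
theorem frame [Finite X] : Frame G₀ d T where
  sq_d := S.sq
  out := S.out
  le := S.le
  sq _ ha := S.sq_mem ha
  ne1 _ ha := S.ne_one ha
  cases _ ha _ hc := S.cases ha hc
  perf1 := S.perf
  conjT k hk a ha := S.data.core.tt.conj_mem ⟨k, hk⟩ _ (S.mem_tt ha)
  transT a ha b hb := by
    obtain ⟨k, e⟩ := isConj_iff.mp (S.data.core.cls _ (S.mem_tt ha) _ (S.mem_tt hb))
    exact ⟨k, k.2, congrArg Subtype.val e⟩
  perf2 a ha b hb hne hc := by
    have hB : (⟨b, S.le b hb⟩ : ↥(cn G₀ [d])) ∈ nb (sub G₀ d T) ⟨a, S.le a ha⟩ :=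
      ⟨hb, fun e => hne (congrArg Subtype.val e).symm, Subtype.ext hc.eq⟩
    have hp := S.data.pair_perfect (S.mem_tt ha) hB
    have e : ({x | x ∈ [⟨a, S.le a ha⟩, (⟨b, S.le b hb⟩ : ↥(cn G₀ [d]))]} : Set ↥(cn G₀ [d])) =
        {⟨a, S.le a ha⟩, ⟨b, S.le b hb⟩} := by ext; simp
    have hm := S.map_cent [⟨a, S.le a ha⟩, ⟨b, S.le b hb⟩]
    rw [e, List.map_cons, List.map_cons, List.map_nil] at hm
    rw [← hm]
    set K := Subgroup.centralizer ({⟨a, S.le a ha⟩, ⟨b, S.le b hb⟩} : Set ↥(cn G₀ [d]))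
    refine perfect_map _ ?_
    have h1 : ⁅(⊤ : Subgroup ↥K), (⊤ : Subgroup ↥K)⁆ = ⊤ := by
      rw [← commutator_def]; exact Group.isPerfect_def.mp hp
    have h2 := congrArg (Subgroup.map K.subtype) h1
    rwa [Subgroup.map_commutator, ← MonoidHom.range_eq_map, Subgroup.range_subtype] at h2
  classify y hy hyy hy1 := by
    obtain ⟨l, lm, lc, lp⟩ := S.data.invol_all S.geo (t := ⟨y, hy⟩) (Subtype.ext hyy)
    obtain ⟨l', nd, len, mem, com, pr⟩ := S.data.shorten l.length l le_rfl lm lc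
    rw [lp] at pr
    match l', nd, len, mem, com, pr with
    | [], _, _, _, _, pr => exact absurd (congrArg Subtype.val pr.symm) hy1
    | [p], _, _, mem, _, pr =>
      rw [List.prod_singleton] at pr
      refine Or.inl ?_
      have h := mem p (by simp)
      rw [pr] at h
      exact h
    | [p, q], nd, _, mem, com, pr =>
      refine Or.inr (Or.inl ⟨p, q, mem p (by simp), mem q (by simp), fun e => ?_,
        congrArg Subtype.val (com p (by simp) q (by simp)).eq, ?_⟩)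
      · simp [Subtype.ext_iff, e] at nd
      · simpa [Subtype.ext_iff] using pr.symm
    | [p, q, r], nd, _, mem, com, pr =>
      simp only [List.nodup_cons, List.mem_cons, List.not_mem_nil, or_false, not_or, List.nodup_nil,
        and_true, not_false_eq_true] at nd
      refine Or.inr (Or.inr ⟨p, q, r, ⟨mem p (by simp), mem q (by simp), mem r (by simp),
        fun e => nd.1.1 (Subtype.ext e), fun e => nd.1.2 (Subtype.ext e), fun e => nd.2 (Subtype.ext e),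
        congrArg Subtype.val (com p (by simp) q (by simp)).eq,
        congrArg Subtype.val (com p (by simp) r (by simp)).eq,
        congrArg Subtype.val (com q (by simp) r (by simp)).eq⟩, ?_⟩)
      simpa [Subtype.ext_iff, mul_assoc] using pr.symm
  moves1 a ha b hb hne hc := by
    classical
    let A : ↥(cn G₀ [d]) := ⟨a, S.le a ha⟩
    let B : ↥(cn G₀ [d]) := ⟨b, S.le b hb⟩
    have hB : B ∈ nb (sub G₀ d T) A := ⟨hb, fun e => hne (congrArg Subtype.val e).symm, Subtype.ext hc.eq⟩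
    obtain ⟨l, hl, hm, -⟩ := (S.data.pair_words (S.mem_tt ha) hB).1
    match l, hl, hm with
    | w :: _, _, hm =>
      obtain ⟨hw, hw'⟩ := hm w List.mem_cons_self
      obtain ⟨k, e1, e2⟩ := S.data.trans2 (S.mem_tt ha) hB (S.mem_tt ha) hw
      refine ⟨k, mem_cn2.mpr ⟨(mem_cn1.mp k.2).1, (mem_cn1.mp k.2).2,
        cj_eq_iff.mp (congrArg Subtype.val e1)⟩, fun q => hw'.2.1 ?_⟩
      exact e2.symm.trans (Subtype.ext q)
  moves2 a b c h := by
    classical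
    obtain ⟨ha, hb, hc, n1, n2, n3, c1, c2, c3⟩ := h
    let A : ↥(cn G₀ [d]) := ⟨a, S.le a ha⟩
    let B : ↥(cn G₀ [d]) := ⟨b, S.le b hb⟩
    let C : ↥(cn G₀ [d]) := ⟨c, S.le c hc⟩
    have hB : B ∈ nb (sub G₀ d T) A := ⟨hb, fun e => n1 (congrArg Subtype.val e).symm, Subtype.ext c1.eq⟩
    have hC : C ∈ nb (sub G₀ d T) A ∩ nb (sub G₀ d T) B :=
      ⟨⟨hc, fun e => n2 (congrArg Subtype.val e).symm, Subtype.ext c2.eq⟩,
        hc, fun e => n3 (congrArg Subtype.val e).symm, Subtype.ext c3.eq⟩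
    obtain ⟨l, hl, hm, hp⟩ := (S.data.pair_words (S.mem_tt ha) hB).1
    obtain ⟨w, hw, hne⟩ : ∃ w ∈ l, w ≠ C := by
      by_contra q
      push Not at q
      rw [List.eq_replicate_of_mem q, hl, List.prod_replicate,
        show 6 = 2 * 3 by rfl, pow_mul, pow_two, S.data.core.tt.sq C hc, one_pow] at hp
      exact S.data.core.ne_one A ha hp.symm
    obtain ⟨k, e1, e2, e3⟩ := S.data.trans3 (S.mem_tt ha) hB hC (S.mem_tt ha) hB (hm w hw)
    exact ⟨k, mem_cn3.mpr ⟨(mem_cn1.mp k.2).1, (mem_cn1.mp k.2).2,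
      cj_eq_iff.mp (congrArg Subtype.val e1), cj_eq_iff.mp (congrArg Subtype.val e2)⟩,
      fun q => hne (e3.symm.trans (Subtype.ext q))⟩
  swap2 a ha b hb hne hc := by
    have hB : (⟨b, S.le b hb⟩ : ↥(cn G₀ [d])) ∈ nb (sub G₀ d T) ⟨a, S.le a ha⟩ :=
      ⟨hb, fun e => hne (congrArg Subtype.val e).symm, Subtype.ext hc.eq⟩
    obtain ⟨k, e1, e2⟩ := S.data.pair_swap (S.mem_tt ha) hB
    exact ⟨k, k.2, congrArg Subtype.val e1, congrArg Subtype.val e2⟩
  perm2 a ha b hb hne hc k hk hkc := by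
    have hB : (⟨b, S.le b hb⟩ : ↥(cn G₀ [d])) ∈ nb (sub G₀ d T) ⟨a, S.le a ha⟩ :=
      ⟨hb, fun e => hne (congrArg Subtype.val e).symm, Subtype.ext hc.eq⟩
    exact (S.data.pair_cases (S.mem_tt ha) hB (g := ⟨k, hk⟩) (Subtype.ext hkc.eq)).imp
      (fun e => ⟨congrArg Subtype.val e.1, congrArg Subtype.val e.2⟩)
      (fun e => ⟨congrArg Subtype.val e.1, congrArg Subtype.val e.2⟩)
  perm3 a b c h k hk hkc x hx := by
    obtain ⟨ha, hb, hc, n1, n2, n3, c1, c2, c3⟩ := h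
    let A : ↥(cn G₀ [d]) := ⟨a, S.le a ha⟩
    let B : ↥(cn G₀ [d]) := ⟨b, S.le b hb⟩
    let C : ↥(cn G₀ [d]) := ⟨c, S.le c hc⟩
    let σ := (MulAut.conj (⟨k, hk⟩ : ↥(cn G₀ [d]))).toMonoidHom
    have htt := S.data.core.tt
    have cAB : Commute A B := Subtype.ext c1.eq
    have cAC : Commute A C := Subtype.ext c2.eq
    have cBC : Commute B C := Subtype.ext c3.eq
    have n1' : A ≠ B := fun e => n1 (congrArg Subtype.val e)
    have n2' : A ≠ C := fun e => n2 (congrArg Subtype.val e)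
    have n3' : B ≠ C := fun e => n3 (congrArg Subtype.val e)
    have inj : Function.Injective σ := (MulAut.conj _).injective
    have pr : σ A * (σ B * σ C) = A * (B * C) := by
      rw [← map_mul, ← map_mul]
      refine mul_inv_eq_iff_eq_mul.mpr (Subtype.ext ?_)
      show k * (a * (b * c)) = a * (b * c) * k
      rw [← mul_assoc a b c]; exact hkc.eq
    have key := unique_factor htt S.data.ind 3 le_rfl (A * (B * C)) [A, B, C] [σ A, σ B, σ C]
      ⟨by simp [n1', n2', n3'], rfl, by simp [A, B, C, ha, hb, hc],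
        by simp [cAB, cAB.symm, cAC, cAC.symm, cBC, cBC.symm], by simp⟩
      ⟨by simp [inj.eq_iff, n1', n2', n3'], rfl, fun t ht => by
          simp only [List.mem_cons, List.not_mem_nil, or_false] at ht
          rcases ht with rfl | rfl | rfl
          exacts [htt.conj_mem _ A ha, htt.conj_mem _ B hb, htt.conj_mem _ C hc],
        by simp [cAB.map σ, (cAB.map σ).symm, cAC.map σ, (cAC.map σ).symm, cBC.map σ,
          (cBC.map σ).symm], by simp [pr]⟩
    have hmem : ∀ z, z ∈ [σ A, σ B, σ C] → (z : X) = a ∨ (z : X) = b ∨ (z : X) = c := fun z hz => by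
      have := (key z).mpr hz
      simp only [List.mem_cons, List.not_mem_nil, or_false] at this
      rcases this with rfl | rfl | rfl <;> simp [A, B, C]
    simp only [List.mem_cons, List.not_mem_nil, or_false] at hx
    rcases hx with rfl | rfl | rfl
    exacts [hmem (σ A) (by simp), hmem (σ B) (by simp), hmem (σ C) (by simp)]
  trans3 a b c a' b' c' h h' := by
    obtain ⟨ha, hb, hc, n1, n2, n3, c1, c2, c3⟩ := h
    obtain ⟨ha', hb', hc', n1', n2', n3', c1', c2', c3'⟩ := h'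
    have mk : ∀ {p q : X} (hp : p ∈ T) (hq : q ∈ T), p ≠ q → Commute p q →
        (⟨q, S.le q hq⟩ : ↥(cn G₀ [d])) ∈ nb (sub G₀ d T) ⟨p, S.le p hp⟩ := fun hp hq n c =>
      ⟨hq, fun e => n (congrArg Subtype.val e).symm, Subtype.ext c.eq⟩
    obtain ⟨k, e1, e2, e3⟩ := S.data.trans3 (S.mem_tt ha) (mk ha hb n1 c1)
      ⟨mk ha hc n2 c2, mk hb hc n3 c3⟩ (S.mem_tt ha') (mk ha' hb' n1' c1')
      ⟨mk ha' hc' n2' c2', mk hb' hc' n3' c3'⟩
    exact ⟨k, k.2, congrArg Subtype.val e1, congrArg Subtype.val e2, congrArg Subtype.val e3⟩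
  kernel a ha b hb hne hc u hu hall := by
    obtain ⟨uG, ud, ua, ub⟩ := mem_cn3.mp hu
    let A : ↥(cn G₀ [d]) := ⟨a, S.le a ha⟩
    let B : ↥(cn G₀ [d]) := ⟨b, S.le b hb⟩
    let U : ↥(cn G₀ [d]) := ⟨u, mem_cn1.mpr ⟨uG, ud⟩⟩
    have hB : B ∈ nb (sub G₀ d T) A := ⟨hb, fun e => hne (congrArg Subtype.val e).symm, Subtype.ext hc.eq⟩
    have hU : U ∈ nbSub (sub G₀ d T) A := by
      rw [← S.geo.cent A ha]
      exact Subgroup.mem_centralizer_singleton_iff.mpr (Subtype.ext ua.eq)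
    rcases S.data.kernel_pair (S.mem_tt ha) hB (g := U) hU (Subtype.ext ub.eq) (fun v hv => Subtype.ext
      (hall v.1 (mem_cn3.mpr ⟨(mem_cn1.mp v.2).1, (mem_cn1.mp v.2).2,
        congrArg Subtype.val hv.1.2.2.eq.symm, congrArg Subtype.val hv.2.2.2.eq.symm⟩)).eq)
      with e | e | e | e
    exacts [Or.inl (congrArg Subtype.val e), Or.inr (Or.inl (congrArg Subtype.val e)),
      Or.inr (Or.inr (Or.inl (congrArg Subtype.val e))),
      Or.inr (Or.inr (Or.inr (congrArg Subtype.val e)))]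
  ind3 a b c h e := by
    obtain ⟨ha, hb, hc, n1, n2, n3, c1, c2, c3⟩ := h
    let A : ↥(cn G₀ [d]) := ⟨a, S.le a ha⟩
    let B : ↥(cn G₀ [d]) := ⟨b, S.le b hb⟩
    let C : ↥(cn G₀ [d]) := ⟨c, S.le c hc⟩
    have cAB : Commute A B := Subtype.ext c1.eq
    have cAC : Commute A C := Subtype.ext c2.eq
    have cBC : Commute B C := Subtype.ext c3.eq
    refine S.data.ind [A, B, C] (by simp [A, B, C, n1, n2, n3]) (by simp) (by simp)
      (by simp [A, B, C, ha, hb, hc]) (by simp [cAB, cAB.symm, cAC, cAC.symm, cBC, cBC.symm]) ?_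
    refine Subtype.ext ?_
    simp [A, B, C, ← mul_assoc, e, S.sq_mem hc]

end Setting

end Cfsg.Agent.H41.AutFi
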