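import Cfsg.Agent.H41.AutFi.Pair
import Cfsg.Agent.H41.AutFi.Ext

/-!
A group of type M(24) with a member whose centraliser is a copy of a group of type M(23) times two:
the identification of the centraliser of `d` with that group gives a lifting map of neighbourhoods,
and so a map of the whole class.
-/

set_option autoImplicit false

namespace Cfsg.Agent.H41.AutFi

open Cfsg.Agent.H93
open Cfsg.Agent.H61.M24 (Geo24)
open Cfsg.Agent.H2.FiCentral (Loc)
open Cfsg.Agent.H61.Glue (TI)

/-- what is used about the model, its member `l` and the map of the smaller model -/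
structure Model {H : Type*} [Group H] (DH : Set H) {G : Type*} [Group G] (E : Set G) (l : G)
    (ψ : H →* G) : Prop where
  geo : Geo24 E
  hl : l ∈ E
  inj : Function.Injective ψ
  comm : ∀ x, Commute l (ψ x)
  notmem : ∀ x, ψ x ≠ l
  cl : ∀ g, Commute l g → ∃ x, g = ψ x ∨ g = ψ x * l
  member : ∀ z ∈ DH, ψ z * l ∈ nb E l
  of_nb : ∀ y ∈ nb E l, ∃ z ∈ DH, y = ψ z * l

namespace Model

variable {H : Type*} [Group H] {DH : Set H} {G : Type*} [Group G] [Finite G] {E : Set G} {l : G}
  {ψ : H →* G} (M : Model DH E l ψ)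

include M

theorem src : Src E := by
  refine ⟨M.geo, fun a ha g hg hall => ?_⟩
  exact (M.geo.center_iff ha ⟨g, hg⟩).mp (mem_center_nbSub.mpr fun v hv => (hall v hv).symm)

variable {X : Type*} [Group X] [Finite X] {G₀ : Subgroup X} {d : X} {T : Set X}

omit [Finite G] in
/-- an identification of the centraliser of `d` with the smaller model starts the gluing -/
theorem lifts (S : Setting G₀ d T) (e : H ≃* ↥(cn G₀ [d])) (he : e '' DH = sub G₀ d T) :
    ∃ φ : G → X, Lifts E (conjugatesOf d) l d φ := by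
  classical
  have out : ∀ x y : H, (e x : X) ≠ d * e y := fun x y q =>
    S.out (by
      have h1 : d = (e x : X) * (e y : X)⁻¹ := by rw [q]; group
      rw [h1]
      exact mul_mem (mem_cn1.mp (e x).2).1 (inv_mem (mem_cn1.mp (e y).2).1))
  have cross : ∀ x y, ψ x ≠ ψ y * l := fun x y q =>
    M.notmem (y⁻¹ * x) (by rw [map_mul, map_inv, q]; group)
  have ll : l * l = 1 := M.geo.data.core.tt.sq l M.hl
  let F : G → X := fun g => if h1 : ∃ x, g = ψ x then (e h1.choose : X) else
    if h2 : ∃ x, g = ψ x * l then d * (e h2.choose : X) else 1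
  have F1 : ∀ x, F (ψ x) = e x := fun x => by
    have h1 : ∃ y, ψ x = ψ y := ⟨x, rfl⟩
    simp only [F, dif_pos h1, ← M.inj h1.choose_spec]
  have F2 : ∀ x, F (ψ x * l) = d * e x := fun x => by
    have h1 : ¬ ∃ y, ψ x * l = ψ y := fun ⟨y, q⟩ => cross y x q.symm
    have h2 : ∃ y, ψ x * l = ψ y * l := ⟨x, rfl⟩
    simp only [F, dif_neg h1, dif_pos h2, ← M.inj (mul_right_cancel h2.choose_spec)]
  have lc : ∀ x, l * ψ x = ψ x * l := fun x => (M.comm x).eq
  have dc : ∀ x, (e x : X) * d = d * e x := fun x => ((mem_cn1.mp (e x).2).2).eq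
  have cases : ∀ g ∈ nbSub E l, ∃ x, g = ψ x ∨ g = ψ x * l := fun g hg => M.cl g (nbSub_commute hg)
  have Fmul : ∀ p ∈ nbSub E l, ∀ q ∈ nbSub E l, F (p * q) = F p * F q := by
    intro p hp q hq
    obtain ⟨x, rfl | rfl⟩ := cases p hp <;> obtain ⟨y, rfl | rfl⟩ := cases q hq
    · rw [← map_mul, F1, F1, F1, map_mul, Subgroup.coe_mul]
    · rw [← mul_assoc, ← map_mul, F2, F1, F2, map_mul, Subgroup.coe_mul, ← mul_assoc, ← mul_assoc,
        dc]
    · rw [mul_assoc, lc, ← mul_assoc, ← map_mul, F2, F2, F1, map_mul, Subgroup.coe_mul, mul_assoc]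
    · rw [show ψ x * l * (ψ y * l) = ψ x * (l * ψ y) * l by group, lc,
        show ψ x * (ψ y * l) * l = ψ x * ψ y * (l * l) by group, ll, mul_one, ← map_mul,
        F1, F2, F2, map_mul, Subgroup.coe_mul,
        show d * (e x : X) * (d * e y) = d * ((e x : X) * d) * e y by group, dc, ← mul_assoc d,
        S.sq, one_mul]
  have Finj : Set.InjOn F (nbSub E l) := by
    intro p hp q hq eq
    obtain ⟨x, rfl | rfl⟩ := cases p hp <;> obtain ⟨y, rfl | rfl⟩ := cases q hq <;>
      simp only [F1, F2] at eq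
    · rw [e.injective (Subtype.ext eq)]
    · exact absurd eq (out x y)
    · exact absurd eq.symm (out y x)
    · rw [e.injective (Subtype.ext (mul_left_cancel eq))]
  have hmem : ∀ z ∈ DH, (e z : X) ∈ T := fun z hz => he.subset ⟨z, hz, rfl⟩
  have Fl : F l = d := by
    have := F2 1
    rwa [map_one, map_one, one_mul, Subgroup.coe_one, mul_one] at this
  refine ⟨F, ⟨⟨fun y hy => ?_, Finj.mono Subgroup.subset_closure, fun w hw => ?_⟩,
    fun p hp q hq => ?_⟩, F, Fmul, Finj, fun v _ => rfl, Fl⟩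
  · obtain ⟨z, hz, rfl⟩ := M.of_nb y hy
    rw [F2]
    exact S.member_nb (hmem z hz)
  · obtain ⟨a, ha, rfl⟩ := S.nb_iff.mp hw
    obtain ⟨z, hz, ez⟩ := he.symm.subset (S.mem_tt ha)
    exact ⟨ψ z * l, M.member z hz, by rw [F2, ez]⟩
  · have hp' : p ∈ nbSub E l := Subgroup.subset_closure hp
    have hq' : q ∈ nbSub E l := Subgroup.subset_closure hq
    rw [Fmul _ (mul_mem hp' hq') _ hp', Fmul _ hp' _ hq']

/-- the class of type M(24) maps onto a part of the class of `d` closed under commuting -/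
theorem exists_map (S : Setting G₀ d T) (e : H ≃* ↥(cn G₀ [d])) (he : e '' DH = sub G₀ d T) :
    ∃ f : G → X, Set.MapsTo f E (conjugatesOf d) ∧ Set.InjOn f E ∧
      (∀ p ∈ E, ∀ q ∈ E, f (p * q * p) = f p * f q * f p) ∧
      (∀ z ∈ E, TI f (nb E z) (nb (conjugatesOf d) (f z))) ∧ f l = d := by
  obtain ⟨φ, hφ⟩ := M.lifts S e he
  obtain ⟨f, h1, h2, h3, h4, h5, -⟩ := exists_class_map M.src S.loc
    (fun a ha b hb v hv hc => S.pair_comm ha hb hv hc) M.hl mem_conjugatesOf_self hφ
  exact ⟨f, h1, h2, h3, h4, h5⟩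

end Model

end Cfsg.Agent.H41.AutFi
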