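import Cfsg.Agent.H61.M24.Data

/-!
An isomorphism carries a class of three-transpositions of type M(24) to one.
-/

set_option autoImplicit false

namespace Cfsg.Agent.H41.AutFi

open Cfsg.Agent.H93

variable {G G' : Type*} [Group G] [Group G']

theorem class_transfer (e : G ≃* G') {E : Set G} (h : Cfsg.IsThreeTranspositionClass E) :
    Cfsg.IsThreeTranspositionClass (e '' E) := by
  obtain ⟨⟨ho, hp⟩, ⟨d, hd, hE⟩, hgen⟩ := h
  refine ⟨⟨?_, ?_⟩, ⟨e d, ⟨d, hd, rfl⟩, ?_⟩, ?_⟩
  · rintro _ ⟨a, ha, rfl⟩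
    rw [MulEquiv.orderOf_eq]
    exact ho a ha
  · rintro _ ⟨a, ha, rfl⟩ _ ⟨b, hb, rfl⟩
    exact (hp a ha b hb).imp (fun q => by rw [← map_mul, ← map_pow, q, map_one])
      fun q => by rw [← map_mul, ← map_pow, q, map_one]
  · subst hE
    ext y
    constructor
    · rintro ⟨a, ha, rfl⟩
      exact MonoidHom.map_isConj e.toMonoidHom ha
    · intro hy
      refine ⟨e.symm y, ?_, e.apply_symm_apply y⟩
      have := MonoidHom.map_isConj e.symm.toMonoidHom (show IsConj (e d) y from hy)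
      simp only [MulEquiv.coe_toMonoidHom, MulEquiv.symm_apply_apply] at this
      exact this
  · rw [eq_top_iff, ← Subgroup.map_top_of_surjective e.toMonoidHom e.surjective, ← hgen,
      MonoidHom.map_closure]
    exact le_refl _

theorem type24_transfer (e : G ≃* G') {E : Set G} (h : Cfsg.IsOfTypeM24 G E) :
    Cfsg.IsOfTypeM24 G' (e '' E) := by
  obtain ⟨hcen, d, hd, c, hc, hdc, h23, N, hN, ⟨μ⟩, ⟨q⟩⟩ := h
  have hback : ∀ a b, Commute (e a) (e b) ↔ Commute a b := fun a b =>
    ⟨fun q => by simpa using q.map e.symm.toMonoidHom, fun q => q.map e.toMonoidHom⟩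
  have hnb : ∀ a, {y : G' | y ∈ e '' E ∧ y ≠ e a ∧ Commute (e a) y} =
      e '' {y : G | y ∈ E ∧ y ≠ a ∧ Commute a y} := by
    intro a
    ext y
    constructor
    · rintro ⟨⟨x, hx, rfl⟩, hne, hc⟩
      exact ⟨x, ⟨hx, fun q => hne (by rw [q]), (hback a x).mp hc⟩, rfl⟩
    · rintro ⟨x, ⟨hx, hne, hc⟩, rfl⟩
      exact ⟨⟨x, hx, rfl⟩, fun q => hne (e.injective q), (hback a x).mpr hc⟩
  refine ⟨?_, e d, ⟨d, hd, rfl⟩, e c, ⟨c, hc, rfl⟩, fun q => hdc ((hback d c).mp q), ?_, ?_⟩
  · rw [eq_bot_iff]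
    intro z hz
    have : e.symm z ∈ Subgroup.center G := Subgroup.mem_center_iff.mpr fun g => by
      apply e.injective
      simpa using Subgroup.mem_center_iff.mp hz (e g)
    rw [hcen, Subgroup.mem_bot] at this
    exact Subgroup.mem_bot.mpr (by simpa using congrArg e this)
  · -- the residue
    have hmap : (nbSub E d).map e.toMonoidHom = nbSub (e '' E) (e d) := by
      rw [MonoidHom.map_closure]
      exact congrArg Subgroup.closure (hnb d).symm
    let e0 : ↥(nbSub E d) ≃* ↥(nbSub (e '' E) (e d)) :=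
      ((nbSub E d).equivMapOfInjective e.toMonoidHom e.injective).trans
        (MulEquiv.subgroupCongr hmap)
    have he0 : ∀ x, ((e0 x : ↥(nbSub (e '' E) (e d))) : G') = e (x : G) := fun x => rfl
    have hcen' : (Subgroup.center ↥(nbSub E d)).map e0.toMonoidHom =
        Subgroup.center ↥(nbSub (e '' E) (e d)) := by
      ext z
      rw [Subgroup.mem_map_equiv]
      constructor
      · intro hz
        rw [Subgroup.mem_center_iff] at hz ⊢
        intro w
        apply e0.symm.injective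
        rw [map_mul, map_mul]
        exact hz _
      · intro hz
        rw [Subgroup.mem_center_iff] at hz ⊢
        intro w
        apply e0.injective
        simp only [map_mul, MulEquiv.apply_symm_apply]
        exact hz _
    let E1 : Residue E d ≃* Residue (e '' E) (e d) := QuotientGroup.congr _ _ e0 hcen'
    have himg : E1 '' resSet E d = resSet (e '' E) (e d) := by
      ext z
      constructor
      · rintro ⟨_, hw, rfl⟩
        obtain ⟨y, hy, rfl⟩ := mem_resSet.mp hw
        exact mem_resSet.mpr ⟨e y, (hnb d).symm.subset ⟨y, hy, rfl⟩,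
          congrArg QuotientGroup.mk (Subtype.ext (he0 _))⟩
      · intro hz
        obtain ⟨y', hy', rfl⟩ := mem_resSet.mp hz
        obtain ⟨y, hy, rfl⟩ := (hnb d).subset hy'
        exact ⟨_, mem_resSet.mpr ⟨y, hy, rfl⟩, congrArg QuotientGroup.mk (Subtype.ext (he0 _))⟩
    have h23' := H61.M24.type23_transfer E1 (E := resSet E d) h23
    rw [himg] at h23'
    exact h23'
  · obtain ⟨r⟩ := closure_quot_equiv e
      ({y : G | y ∈ E ∧ y ≠ d ∧ Commute d y} ∩ {y : G | y ∈ E ∧ y ≠ c ∧ Commute c y})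
      (show {y : G' | y ∈ e '' E ∧ y ≠ e d ∧ Commute (e d) y} ∩
        {y : G' | y ∈ e '' E ∧ y ≠ e c ∧ Commute (e c) y} = _ by
        rw [hnb d, hnb c, ← Set.image_inter e.injective])
    haveI hn : (N.map r.symm.toMonoidHom).Normal := hN.map _ r.symm.surjective
    exact ⟨N.map r.symm.toMonoidHom, hn, ⟨(r.symm.subgroupMap N).symm.trans μ⟩,
      ⟨(QuotientGroup.congr N (N.map r.symm.toMonoidHom) r.symm rfl).symm.trans q⟩⟩

theorem prim_transfer (e : G ≃* G') {E : Set G} (h : Cfsg.IsPrimitiveUnderConj E) :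
    Cfsg.IsPrimitiveUnderConj (e '' E) := by
  obtain ⟨htr, ⟨a, ha, b, hb, hne⟩, hblock⟩ := h
  refine ⟨?_, ⟨e a, ⟨a, ha, rfl⟩, e b, ⟨b, hb, rfl⟩, fun q => hne (e.injective q)⟩, fun B hB hg => ?_⟩
  · rintro _ ⟨a, ha, rfl⟩ _ ⟨b, hb, rfl⟩
    obtain ⟨g, hg⟩ := htr a ha b hb
    exact ⟨e g, by rw [← map_inv, ← map_mul, ← map_mul, hg]⟩
  have hBe : e '' (e ⁻¹' B) = B := Set.image_preimage_eq B e.surjective
  have hcj : ∀ g : G, e '' ((fun x => g * x * g⁻¹) '' (e ⁻¹' B)) =
      (fun x => e g * x * (e g)⁻¹) '' B := fun g => by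
    conv_rhs => rw [← hBe]
    rw [Set.image_image, Set.image_image]
    simp only [map_mul, map_inv]
  have hblk : ∀ g : G, (fun x => g * x * g⁻¹) '' (e ⁻¹' B) = e ⁻¹' B ∨
      Disjoint ((fun x => g * x * g⁻¹) '' (e ⁻¹' B)) (e ⁻¹' B) := fun g => by
    rcases hg (e g) with q | q
    · left
      exact Set.image_injective.mpr e.injective (by rw [hcj, q, hBe])
    · right
      refine (Set.disjoint_image_iff e.injective).mp ?_
      rw [hcj, hBe]
      exact q
  rcases hblock (e ⁻¹' B) (fun x hx => by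
      obtain ⟨y, hy, q⟩ := hB hx
      exact e.injective q ▸ hy) hblk with q | q
  · exact Or.inl (hBe ▸ q.image e)
  · exact Or.inr (by rw [← q, hBe])

end Cfsg.Agent.H41.AutFi
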