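import Cfsg.Agent.H41.AutFi.Image
import Cfsg.Agent.H41.AutFi.Transfer
import Cfsg.Agent.H93.Invol24

/-!
The image of the model is the whole group.
-/

set_option autoImplicit false

namespace Cfsg.Agent.H41.AutFi

open Cfsg.Agent.H93

variable {X : Type*} [Group X]

/-- an involution times a power of its product with another is conjugate to one of them -/
theorem mul_pow_conj {x y : X} (xx : x * x = 1) (yy : y * y = 1) :
    ∀ n : ℕ, (Even n → IsConj x (x * (x * y) ^ n)) ∧ (Odd n → IsConj y (x * (x * y) ^ n))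
  | 0 => ⟨fun _ => by rw [pow_zero, mul_one], fun h => absurd h (by decide)⟩
  | 1 => ⟨fun h => absurd h (by decide), fun _ => by rw [pow_one, ← mul_assoc, xx, one_mul]⟩
  | n + 2 => by
    have ih := mul_pow_conj xx yy n
    have e : x * (x * y) ^ (n + 2) = y * x * (x * (x * y) ^ n) * (y * x)⁻¹ := by
      rw [show (y * x)⁻¹ = x * y by
        rw [mul_inv_rev, inv_eq_of_mul_eq_one_left xx, inv_eq_of_mul_eq_one_left yy],
        pow_add, pow_two]
      calc x * ((x * y) ^ n * (x * y * (x * y))) = x * ((x * y) ^ n * (x * y)) * (x * y) := by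
            simp only [mul_assoc]
        _ = x * (x * y * (x * y) ^ n) * (x * y) := by rw [(Commute.self_pow (x * y) n).eq]
        _ = (x * x) * y * (x * y) ^ n * (x * y) := by simp only [mul_assoc]
        _ = y * (x * y) ^ n * (x * y) := by rw [xx, one_mul]
        _ = _ := by rw [show y * x * (x * (x * y) ^ n) = y * (x * x) * (x * y) ^ n by
              simp only [mul_assoc], xx, mul_one]
    refine ⟨fun h => ?_, fun h => ?_⟩ <;> rw [e]
    · exact (ih.1 (by rw [Nat.even_add] at h; exact h.mpr (by decide))).trans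
        (isConj_iff.mpr ⟨_, rfl⟩)
    · exact (ih.2 (by rw [Nat.odd_add] at h; exact h.mpr (by decide))).trans
        (isConj_iff.mpr ⟨_, rfl⟩)

/-- the middle of an even dihedral group is central in it -/
theorem middle_comm {x y : X} (xx : x * x = 1) (yy : y * y = 1) {n : ℕ}
    (h : ((x * y) ^ n) * ((x * y) ^ n) = 1) : Commute x ((x * y) ^ n) ∧ Commute y ((x * y) ^ n) := by
  have hx : Commute x ((x * y) ^ n) := by
    refine cj_eq_iff.mp ?_
    rw [← conj_pow, show x * (x * y) * x⁻¹ = (x * y)⁻¹ by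
      rw [inv_eq_of_mul_eq_one_left xx, mul_inv_rev, inv_eq_of_mul_eq_one_left xx,
        inv_eq_of_mul_eq_one_left yy, ← mul_assoc, xx, one_mul], inv_pow]
    exact inv_eq_of_mul_eq_one_left h
  refine ⟨hx, ?_⟩
  have h1 : Commute (x * (x * y)) ((x * y) ^ n) := hx.mul_left (Commute.self_pow _ n)
  rwa [← mul_assoc, xx, one_mul] at h1

/-- an odd dihedral group conjugates one generator to the other -/
theorem odd_conj {x y : X} (xx : x * x = 1) (yy : y * y = 1) (h : ¬ Even (orderOf (x * y))) :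
    ∃ g : X, g * x * g⁻¹ = y ∧ ∀ c : X, Commute c x → Commute c y → Commute c g := by
  obtain ⟨k, hk⟩ := Nat.not_even_iff_odd.mp h
  set r := x * y with hr
  refine ⟨r ^ k, ?_, fun c cx cy => (cx.mul_right cy).pow_right k⟩
  have e1 : x * r * x⁻¹ = r⁻¹ := by
    rw [hr, inv_eq_of_mul_eq_one_left xx, mul_inv_rev, inv_eq_of_mul_eq_one_left xx,
      inv_eq_of_mul_eq_one_left yy, ← mul_assoc, xx, one_mul]
  have e2 : x * (r ^ k)⁻¹ = r ^ k * x := by
    rw [← inv_pow, ← e1, conj_pow, inv_eq_of_mul_eq_one_left xx, ← mul_assoc, ← mul_assoc, xx,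
      one_mul]
  have e3 : r ^ (2 * k) = r⁻¹ := by
    refine eq_inv_of_mul_eq_one_left ?_
    rw [← pow_succ, ← hk, pow_orderOf_eq_one]
  calc r ^ k * x * (r ^ k)⁻¹ = r ^ k * (r ^ k * x) := by rw [mul_assoc, e2]
    _ = r ^ (2 * k) * x := by rw [← mul_assoc, ← pow_add, two_mul]
    _ = y := by
      rw [e3, hr, mul_inv_rev, inv_eq_of_mul_eq_one_left xx, inv_eq_of_mul_eq_one_left yy, mul_assoc,
        xx, mul_one]

/-- elements outside a subgroup of index two have even order -/
theorem even_of_notMem {G₀ : Subgroup X} (h2 : G₀.index = 2) {y : X} (hy : y ∉ G₀) :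
    Even (orderOf y) := by
  by_contra hodd
  obtain ⟨k, hk⟩ := Nat.not_even_iff_odd.mp hodd
  refine hy ?_
  have e : y = (y ^ 2) ^ (k + 1) := by
    rw [← pow_mul, show 2 * (k + 1) = 2 * k + 1 + 1 by ring, pow_succ, ← hk, pow_orderOf_eq_one,
      one_mul]
  rw [e]
  exact pow_mem (Subgroup.sq_mem_of_index_two h2 y) _

/-- half of an even order gives an involution -/
theorem half_order [Finite X] {r : X} {n : ℕ} (hn : orderOf r = n + n) :
    r ^ n * r ^ n = 1 ∧ r ^ n ≠ 1 := by
  refine ⟨by rw [← pow_add, ← hn, pow_orderOf_eq_one], fun q => ?_⟩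
  have hd := orderOf_dvd_of_pow_eq_one q
  have hp := orderOf_pos r
  have := Nat.le_of_dvd (by omega) hd
  omega

variable [Finite X] {H : Type*} [Group H] {DH : Set H} {G : Type*} [Group G] [Finite G] {E : Set G}
  {l : G} {ψ : H →* G} {G₀ : Subgroup X} {d : X} {T : Set X}

section

variable (M : Model DH E l ψ) (S : Setting G₀ d T) {η : G →* X} (Hη : Img E l d η)

include M Hη

omit [Finite X] [Finite G] in
theorem mem_class {z : G} (hz : z ∈ E) : η z ∈ conjugatesOf d := by
  have h := MonoidHom.map_isConj η (M.geo.data.core.cls l M.hl z hz)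
  rwa [Hη.base] at h

include S

omit [Finite X] [Finite G] in
theorem member_pre {a : X} (ha : a ∈ T) : ∃ z ∈ E, η z = d * a := by
  refine Hη.nbs l M.hl _ (S.member_class ha) ?_
  rw [Hη.base]
  exact (S.member_nb ha).2.2.symm

omit [Finite G] in
theorem cent_le {g : X} (hg : Commute g d) : g ∈ η.range := by
  have hT : ∀ a ∈ T, a ∈ η.range := by
    intro a ha
    obtain ⟨z, -, ez⟩ := member_pre M S Hη ha
    exact ⟨l * z, by rw [map_mul, Hη.base, ez, ← mul_assoc, S.sq, one_mul]⟩
  have hY : cn G₀ [d] ≤ η.range := by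
    have h1 := congrArg (Subgroup.map (cn G₀ [d]).subtype) S.data.gen
    rw [MonoidHom.map_closure, ← MonoidHom.range_eq_map, Subgroup.range_subtype] at h1
    rw [← h1, Subgroup.closure_le]
    rintro _ ⟨a, ha, rfl⟩
    exact hT _ ha
  by_cases hG : g ∈ G₀
  · exact hY (mem_cn1.mpr ⟨hG, hg⟩)
  · have h1 : g * d ∈ η.range := hY (mem_cn1.mpr
      ⟨S.mul_mem_iff.mpr ⟨fun q => absurd q hG, fun q => absurd q S.out⟩,
        hg.mul_left (Commute.refl d)⟩)
    have h2 := mul_mem h1 (show d ∈ η.range from ⟨l, Hη.base⟩)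
    rwa [mul_assoc, S.sq, mul_one] at h2

omit [Finite G] in
theorem stab_le {p q : G} (hp : p ∈ E) (hq : q ∈ E) {g : X} (hg : g * η p * g⁻¹ = η q) :
    g ∈ η.range := by
  obtain ⟨u, hu⟩ := isConj_iff.mp (M.geo.data.core.cls l M.hl p hp)
  obtain ⟨v, hv⟩ := isConj_iff.mp (M.geo.data.core.cls l M.hl q hq)
  have h : (η v)⁻¹ * g * η u ∈ η.range := by
    refine cent_le M S Hη (cj_eq_iff.mp ?_)
    have eu : η u * d * (η u)⁻¹ = η p := by rw [← hu, map_mul, map_mul, map_inv, Hη.base]
    have ev : η v * d * (η v)⁻¹ = η q := by rw [← hv, map_mul, map_mul, map_inv, Hη.base]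
    calc (η v)⁻¹ * g * η u * d * ((η v)⁻¹ * g * η u)⁻¹
        = (η v)⁻¹ * (g * (η u * d * (η u)⁻¹) * g⁻¹) * η v := by group
      _ = (η v)⁻¹ * (η v * d * (η v)⁻¹) * η v := by rw [eu, hg, ← ev]
      _ = d := by group
  have := mul_mem (mul_mem (show η v ∈ η.range from ⟨v, rfl⟩) h)
    (inv_mem (show η u ∈ η.range from ⟨u, rfl⟩))
  rwa [show η v * ((η v)⁻¹ * g * η u) * (η u)⁻¹ = g by group] at this

omit [Finite G] in
theorem cent_member {a g : X} (ha : a ∈ T) (hg : Commute g a) : g ∈ η.range := by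
  rcases S.cases ha hg with q | q
  · exact cent_le M S Hη (cj_eq_iff.mp q)
  · obtain ⟨z, hz, ez⟩ := member_pre M S Hη ha
    exact stab_le M S Hη M.hl hz (by rw [Hη.base, ez, q])

/-- every conjugate of `d` is in the image -/
theorem class_pre {e : X} (he : e ∈ conjugatesOf d) : ∃ z ∈ E, η z = e := by
  classical
  by_contra hno
  simp only [not_exists, not_and] at hno
  have hdat := M.geo.data
  have htt := hdat.core.tt
  have far : ∀ z ∈ E, ¬ Commute e (η z) := fun z hz c => by
    obtain ⟨z', hz', ez⟩ := Hη.nbs z hz e he c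
    exact hno z' hz' ez
  have ee : e * e = 1 := S.inv.sq e he
  -- products with members have odd order
  have hodd : ∀ z ∈ E, ¬ Even (orderOf (η z * e)) := by
    rintro z hz ⟨n, hn⟩
    obtain ⟨w2, w1⟩ := half_order hn
    set w := (η z * e) ^ n with hw
    have zz : η z * η z = 1 := S.inv.sq _ (mem_class M Hη hz)
    obtain ⟨cz, ce⟩ := middle_comm zz ee w2
    have hD : η z * w ∈ conjugatesOf d := by
      rcases Nat.even_or_odd n with q | q
      · exact (mem_class M Hη hz : IsConj d (η z)).trans ((mul_pow_conj zz ee n).1 q)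
      · exact (he : IsConj d e).trans ((mul_pow_conj zz ee n).2 q)
    obtain ⟨z', hz', ez⟩ := Hη.nbs z hz _ hD ((Commute.refl (η z)).mul_left cz.symm)
    refine far z hz (S.pair_comm (mem_class M Hη hz) (b := η z')
      ⟨mem_class M Hη hz', fun q => w1 ?_, ?_⟩ he ?_)
    · rw [ez] at q
      exact mul_eq_left.mp q
    · rw [ez]; exact (Commute.refl (η z)).mul_right cz
    · rw [ez, ← mul_assoc, zz, one_mul]; exact ce
  obtain ⟨a₀, ha₀⟩ : ∃ a, a ∈ T := by
    obtain ⟨a, ha⟩ := S.data.nonempty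
    exact ⟨_, ha⟩
  have aa : a₀ * a₀ = 1 := S.sq_mem ha₀
  have a0G : a₀ ∈ G₀ := (mem_cn1.mp (S.le a₀ ha₀)).1
  obtain ⟨n, hn⟩ := even_of_notMem S.idx (y := e * a₀)
    (fun q => S.class_out he ((Subgroup.mul_mem_cancel_right G₀ a0G).mp q))
  obtain ⟨v2, v1⟩ := half_order hn
  set v := (e * a₀) ^ n with hv
  obtain ⟨ve, va⟩ := middle_comm ee aa v2
  obtain ⟨t, ht⟩ := cent_member M S Hη ha₀ va.symm
  replace ht : η t = v := ht
  replace ve : Commute e v := ve
  have tt' : t * t = 1 := Hη.inj (by rw [map_mul, map_one, ht, v2])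
  have hres := fun a (ha : a ∈ E) => And.intro (hdat.res a ha).2 (hdat.res a ha).1
  have htwo : ∀ a ∈ E, ∀ k : ↥(nbSub E a), k ∈ Subgroup.center ↥(nbSub E a) →
      (k : G) = 1 ∨ (k : G) = a := fun a ha k hk => (M.geo.center_iff ha k).mp hk
  rcases Nat.even_or_odd n with hev | hod
  · obtain ⟨c, hc, hct⟩ := Upper24.exists_commute hdat.core hres tt' M.hl
    have hw : e * v ∈ conjugatesOf d := (he : IsConj d e).trans ((mul_pow_conj ee aa n).1 hev)
    refine far c hc (S.pair_comm he ⟨hw, fun q => v1 (mul_eq_left.mp q),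
      (Commute.refl e).mul_right ve⟩ (mem_class M Hη hc) ?_).symm
    rw [← mul_assoc, ee, one_mul, ← ht]
    exact (hct.map η).symm
  have hvout : v ∉ G₀ := by
    have h1 : e * v ∈ G₀ := by
      obtain ⟨g, hg⟩ := isConj_iff.mp ((mul_pow_conj ee aa n).2 hod)
      rw [← hg]
      exact S.normal.conj_mem _ a0G g
    exact fun q => S.class_out he ((Subgroup.mul_mem_cancel_right G₀ q).mp h1)
  obtain ⟨L, Lm, Lc, Lp⟩ := Upper24.invol_list hdat.core M.geo.cent htwo hres M.hl tt'
  obtain ⟨L', nd, len, mem, com, pr⟩ := Upper24.shorten hdat.core hdat.ind htwo hres L.length L le_rfl Lm Lc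
  rw [Lp] at pr
  have outm : ∀ {z}, z ∈ E → η z ∉ G₀ := fun hz => S.class_out (mem_class M Hη hz)
  have two_in : ∀ {p q}, p ∈ E → q ∈ E → η (p * q) ∈ G₀ := fun hp hq => by
    rw [map_mul]
    exact S.mul_mem_iff.mpr ⟨fun c => absurd c (outm hp), fun c => absurd c (outm hq)⟩
  match L', nd, len, mem, com, pr with
  | [], _, _, _, _, pr => exact v1 (by rw [← ht, ← pr, List.prod_nil, map_one])
  | [a], _, _, mem, _, pr =>
    rw [List.prod_singleton] at pr
    exact far a (mem a (by simp)) (by rw [pr, ht]; exact ve)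
  | [a, b], _, _, mem, _, pr =>
    refine hvout ?_
    rw [← ht, ← pr, List.prod_cons, List.prod_singleton]
    exact two_in (mem a (by simp)) (mem b (by simp))
  | [a, b, c, u], _, _, mem, _, pr =>
    refine hvout ?_
    rw [← ht, ← pr, show [a, b, c, u].prod = a * b * (c * u) by simp [mul_assoc], map_mul]
    exact mul_mem (two_in (mem a (by simp)) (mem b (by simp))) (two_in (mem c (by simp)) (mem u (by simp)))
  | _ :: _ :: _ :: _ :: _ :: _, _, len, _, _, _ => simp at len; omega
  | [a, b, c], nd, _, mem, com, pr =>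
    simp only [List.nodup_cons, List.mem_cons, List.not_mem_nil, or_false, not_or, List.nodup_nil,
      and_true, not_false_eq_true] at nd
    obtain ⟨⟨n1, n2⟩, n3⟩ := nd
    have ma := mem a (by simp)
    have mb := mem b (by simp)
    have mc := mem c (by simp)
    have cab := com a (by simp) b (by simp)
    have cac := com a (by simp) c (by simp)
    have cbc := com b (by simp) c (by simp)
    obtain ⟨Q, qnd, qlen, qm, qc⟩ := Upper24.exists_four hdat.core hres M.hl
    match Q, qlen, qnd, qm, qc with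
    | [x, y, z, w], _, qnd, qm, qc =>
      simp only [List.nodup_cons, List.mem_cons, List.not_mem_nil, or_false, not_or, List.nodup_nil,
        and_true, not_false_eq_true] at qnd
      obtain ⟨⟨x1, x2, x3⟩, ⟨y1, y2⟩, z1⟩ := qnd
      obtain ⟨g, ga, gb, gc⟩ := Upper24.trans3 hdat.core hres (qm x (by simp)) (b := y) (c := z)
        ⟨qm y (by simp), Ne.symm x1, qc x (by simp) y (by simp)⟩
        ⟨⟨qm z (by simp), Ne.symm x2, qc x (by simp) z (by simp)⟩,
          qm z (by simp), Ne.symm y1, qc y (by simp) z (by simp)⟩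
        ma (b' := b) (c' := c) ⟨mb, Ne.symm n1, cab⟩
        ⟨⟨mc, Ne.symm n2, cac⟩, mc, Ne.symm n3, cbc⟩
      set m := g * w * g⁻¹ with hm
      have mm : m ∈ E := htt.conj_mem g w (qm w (by simp))
      have hma : Commute m a := ga ▸ cj_comm g (qc w (by simp) x (by simp))
      have hmb : Commute m b := gb ▸ cj_comm g (qc w (by simp) y (by simp))
      have hmc : Commute m c := gc ▸ cj_comm g (qc w (by simp) z (by simp))
      have mne : m ∉ [a, b, c] := by
        simp only [List.mem_cons, List.not_mem_nil, or_false, not_or]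
        exact ⟨fun q => x3 (cj_inj (q.trans ga.symm)).symm,
          fun q => y2 (cj_inj (q.trans gb.symm)).symm, fun q => z1 (cj_inj (q.trans gc.symm)).symm⟩
      have prt : a * b * c = t := by rw [← pr]; simp [mul_assoc]
      have cta : Commute a t := prt ▸ ((Commute.refl a).mul_right cab).mul_right cac
      have ctm : Commute m t := prt ▸ (hma.mul_right hmb).mul_right hmc
      have za : η a * η a = 1 := S.inv.sq _ (mem_class M Hη ma)
      have zm : η m * η m = 1 := S.inv.sq _ (mem_class M Hη mm)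
      obtain ⟨h₁, e1, c1⟩ := odd_conj za ee (hodd a ma)
      obtain ⟨h₂, e2, c2⟩ := odd_conj zm ee (hodd m mm)
      have k1 : Commute v h₁ := c1 v (ht ▸ (cta.map η).symm) ve.symm
      have k2 : Commute v h₂ := c2 v (ht ▸ (ctm.map η).symm) ve.symm
      have hh : h₂⁻¹ * h₁ * η a * (h₂⁻¹ * h₁)⁻¹ = η m := by
        rw [show h₂⁻¹ * h₁ * η a * (h₂⁻¹ * h₁)⁻¹ = h₂⁻¹ * (h₁ * η a * h₁⁻¹) * h₂ by group, e1, ← e2]
        group
      obtain ⟨k, hk⟩ := stab_le M S Hη ma mm hh
      have km : k * a * k⁻¹ = m := Hη.inj (by rw [map_mul, map_mul, map_inv, hk, hh])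
      have kt : k * t * k⁻¹ = t := Hη.inj (by
        rw [map_mul, map_mul, map_inv, hk, ht]
        exact cj_eq_iff.mpr (k2.inv_right.mul_right k1).symm)
      let σ := (MulAut.conj k).toMonoidHom
      have inj : Function.Injective σ := (MulAut.conj k).injective
      have key := unique_factor' htt hdat.ind 3 le_rfl (by norm_num) t [a, b, c] [σ a, σ b, σ c]
        ⟨by simp [n1, n2, n3], rfl, by simp [ma, mb, mc],
          by simp [cab, cab.symm, cac, cac.symm, cbc, cbc.symm], by simp [← prt, mul_assoc]⟩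
        ⟨by simp [inj.eq_iff, n1, n2, n3], rfl, fun u hu => by
            simp only [List.mem_cons, List.not_mem_nil, or_false] at hu
            rcases hu with rfl | rfl | rfl
            exacts [htt.conj_mem k a ma, htt.conj_mem k b mb, htt.conj_mem k c mc],
          by simp [cab.map σ, (cab.map σ).symm, cac.map σ, (cac.map σ).symm, cbc.map σ,
            (cbc.map σ).symm], by
            rw [show [σ a, σ b, σ c].prod = σ (a * b * c) by simp [mul_assoc], prt]
            exact kt⟩
      exact mne ((key m).mpr (by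
        refine List.mem_cons.mpr (Or.inl ?_)
        exact km.symm))

end

/-- the model is the whole group -/
theorem Model.exists_iso (M : Model DH E l ψ) (S : Setting G₀ d T) (e : H ≃* ↥(cn G₀ [d]))
    (he : e '' DH = sub G₀ d T) : ∃ ε : G ≃* X, ε l = d := by
  obtain ⟨η, Hη⟩ := M.exists_img S e he
  have hsurj : Function.Surjective η := fun g => by
    obtain ⟨z, hz, ez⟩ := class_pre M S Hη (show g * d * g⁻¹ ∈ conjugatesOf d from
      isConj_iff.mpr ⟨g, rfl⟩)
    exact stab_le M S Hη M.hl hz (by rw [Hη.base, ez])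
  exact ⟨MulEquiv.ofBijective η ⟨Hη.inj, hsurj⟩, Hη.base⟩

/-- the group is of type M(24) -/
theorem Model.exists_class (M : Model DH E l ψ) (S : Setting G₀ d T) (e : H ≃* ↥(cn G₀ [d]))
    (he : e '' DH = sub G₀ d T) (hcls : Cfsg.IsThreeTranspositionClass E)
    (h24 : Cfsg.IsOfTypeM24 G E) :
    ∃ E' : Set X, Cfsg.IsThreeTranspositionClass E' ∧ Cfsg.IsOfTypeM24 X E' := by
  obtain ⟨ε, -⟩ := M.exists_iso S e he
  exact ⟨ε '' E, class_transfer _ hcls, type24_transfer _ h24⟩

end Cfsg.Agent.H41.AutFi
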