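import Cfsg.Agent.H41.AutFi.Concrete
import Cfsg.Agent.S5450

/-!
The statement about groups with a subgroup of index two of large Fischer type, from the recognition of
type M(23).
-/

set_option autoImplicit false
set_option maxRecDepth 100000

namespace Cfsg.Agent.H41.AutFi

universe u

theorem inner_centralizer : H33.AutLFi.InnerCentralizer.{u} :=
  fun {_} _ _ z Q _ hF t htQ ht2 ht K hK _ => Cfsg.Agent.S5450.result z Q hF t htQ ht2 ht K hK

theorem aut_type24 (h02 : H33.AutLFi.CentralRecognition.{u}) {X : Type u} [Group X] [Finite X]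
    (G₀ : Subgroup X) (hidx : G₀.index = 2) (z : ↥G₀) (hz : orderOf z = 2)
    (Q N M : Subgroup (Subgroup.centralizer ({z} : Set ↥G₀))) [Q.Normal] [N.Normal] [M.Normal]
    (hF : Cfsg.generalizedFittingSubgroup (Subgroup.centralizer ({z} : Set ↥G₀)) = Q)
    (hQ : Cfsg.IsExtraspecial 2 Q) (hcard : Nat.card Q = 2 ^ 13) (hQN : Q ≤ N) (hNM : N ≤ M)
    (hN : Nat.card N = 3 * Nat.card Q) (K : Type) [Field K] [Fintype K] (hK : Fintype.card K = 9)
    (e : M ⧸ N.subgroupOf M ≃* Cfsg.PSU 4 K 3) (hM : M.index = 2)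
    (hnwc : ∃ g : ↥G₀, (∃ hq : g * z * g⁻¹ ∈ Subgroup.centralizer ({z} : Set ↥G₀),
      (⟨g * z * g⁻¹, hq⟩ : Subgroup.centralizer ({z} : Set ↥G₀)) ∈ Q) ∧ g * z * g⁻¹ ≠ z)
    (hcentral : ∃ P : Sylow 2 ↥G₀, z ∈ (P : Subgroup ↥G₀) ∧ ∀ x ∈ (P : Subgroup ↥G₀), Commute x z)
    (hFX : (Cfsg.generalizedFittingSubgroup ↥(Subgroup.centralizer ({(z : X)} : Set X))).map
      (Subgroup.subtype _) = ((Q.map (Subgroup.subtype _)).map G₀.subtype)) :
    ∃ E : Set X, Cfsg.IsThreeTranspositionClass E ∧ Cfsg.IsOfTypeM24 X E ∧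
      Cfsg.IsPrimitiveUnderConj E :=
  exists_class_fi24 inner_centralizer h02 G₀ hidx z Q
    ⟨⟨hz, hF, hQ, hcard, hnwc⟩, N, M, inferInstance, inferInstance, hQN, hNM, hN,
      ⟨K, inferInstance, inferInstance, hK, ⟨e⟩⟩, hM⟩ hcentral hFX

end Cfsg.Agent.H41.AutFi
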